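import Cfsg.Agent.Lib.Chevalley.InvolCert.TwE6.Data

/-! The certificate of the twisted groups of type E6 is correct. -/

set_option autoImplicit false
set_option maxHeartbeats 2000000
set_option maxRecDepth 100000

namespace Cfsg.Agent.Chevalley.InvolCert.TwE6

theorem range0_ok : rangeChk reps table 0 64 = true := by decide +kernel

theorem range64_ok : rangeChk reps table 64 64 = true := by decide +kernel

theorem range128_ok : rangeChk reps table 128 64 = true := by decide +kernel

theorem range192_ok : rangeChk reps table 192 64 = true := by decide +kernel

theorem range256_ok : rangeChk reps table 256 64 = true := by decide +kernel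

theorem range320_ok : rangeChk reps table 320 64 = true := by decide +kernel

theorem range384_ok : rangeChk reps table 384 38 = true := by decide +kernel

theorem chains_ok : chainsChk reps classes chains = true := by decide +kernel

theorem top_free : (List.range' 0 24).all (fun j => Nat.beq (fl (table.get 421).st j) 2) = true := by decide +kernel

theorem table_ok : ∀ i < 422, nodeChk reps table i = true := by
  intro i hi
  by_cases h0 : i < 64
  · exact rangeChk_spec range0_ok (by omega) (by omega)
  by_cases h64 : i < 128
  · exact rangeChk_spec range64_ok (by omega) (by omega)
  by_cases h128 : i < 192
  · exact rangeChk_spec range128_ok (by omega) (by omega)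
  by_cases h192 : i < 256
  · exact rangeChk_spec range192_ok (by omega) (by omega)
  by_cases h256 : i < 320
  · exact rangeChk_spec range256_ok (by omega) (by omega)
  by_cases h320 : i < 384
  · exact rangeChk_spec range320_ok (by omega) (by omega)
  by_cases h384 : i < 422
  · exact rangeChk_spec range384_ok (by omega) (by omega)
  omega

end Cfsg.Agent.Chevalley.InvolCert.TwE6
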