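import Cfsg.Agent.Lib.Chevalley.InvolCert.TwE6.Sound
import Cfsg.Agent.Lib.Chevalley.InvolCert.Group

/-!
The orbit coordinates give all elements of the unipotent subgroup of the twisted group, and every
involution is conjugate into it.
-/

set_option autoImplicit false
set_option linter.unusedSectionVars false
set_option maxRecDepth 100000

namespace Cfsg.Agent.Chevalley.InvolCert.TwE6

open Cfsg.Lie Cfsg.Agent.Chevalley Cfsg.Agent.Chevalley.Table Cfsg.Agent.Chevalley.Cert
  Cfsg.Agent.Chevalley.Group Cfsg.Agent.Chevalley.Unip Cfsg.Agent.Chevalley.Borel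

variable {K : Type*} [Field K] [CharP K 2] [Fintype K] {q : ℕ} {hK : Fintype.card K = q ^ 2}
  (X : Twist.E6.Setup (K := K) hK) (hq : IsPrimePow q)

theorem tri_ok : triChk = true := by decide +kernel

theorem orb_exp : (∑ j : Fin 24, if fst' j.1 = snd' j.1 then 1 else 2) = 36 := by decide +kernel

include X hq

theorem WE_inj {e e' : ℕ → K} (he : Fixed q false e) (he' : Fixed q false e')
    (h : WE q e = WE q e') : ∀ j < 24, e j = e' j := by
  have hchk := tri_ok
  unfold triChk at hchk
  split at hchk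
  · next c hc =>
    have hev : ∀ e : ℕ → K, Fixed q false e →
        WE q e = Po E6.sys hC6 (fun i => pev (vv q e) (c.getD i [])) := by
      intro e he
      have e1 := wev_nf (vv q e) E6.sys hC6 E6.tbl_ok hc
      rw [wev_W X hq he] at e1
      refine Eq.trans ?_ e1
      refine congrArg List.prod (List.map_congr_left fun j hj => ?_)
      dsimp only
      rw [List.getD_eq_getElem _ _ (by simp [List.mem_range'_1] at hj ⊢; omega), List.getElem_map,
        List.getElem_range']
      simp [pev, mev, vv_two]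
    intro j
    induction j using Nat.strong_induction_on with
    | _ j ih =>
      intro hj
      have hf := (orb_ok j hj).1
      have e1 := Po_inj E6.sys hC6 E6.tbl_ok ((hev e he).symm.trans (h.trans (hev e' he')))
        (i := fst' j) hf
      have e2 := List.all_eq_true.1 hchk j (List.mem_range'_1.2 ⟨Nat.zero_le _, by omega⟩)
      obtain ⟨P, hP⟩ : ∃ P : List ℕ → Bool,
          P = fun m => m.any fun x => !(Nat.blt (x / 2) j) := ⟨_, rfl⟩
      rw [← hP] at e2
      rw [split_filter' _ P, split_filter' (vv q e') P, eqP_spec e2, eqP_spec e2] at e1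
      have hlow : pev (vv q e) ((c.getD (fst' j) []).filter fun m => !P m) =
          pev (vv q e') ((c.getD (fst' j) []).filter fun m => !P m) := by
        refine congrArg List.sum (List.map_congr_left fun m hm => ?_)
        refine congrArg List.prod (List.map_congr_left fun x hx => ?_)
        rw [List.mem_filter, hP, Bool.not_eq_true', List.any_eq_false] at hm
        have hxj : x / 2 < j := by simpa [Nat.blt_eq] using hm.2 x hx
        simp only [vv, ih _ hxj (by omega)]
      rw [hlow] at e1
      simpa [pev, mev, vv_two] using e1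
  · simp at hchk

/-- The elements of the unipotent subgroup of the twisted group have orbit coordinates. -/
theorem exists_WE {g : GL chevE6.Idx K} (hU : g ∈ chevE6.posUnipotent K)
    (hg : g ∈ twistedE6 K q) : ∃ e : ℕ → K, Fixed q false e ∧ e 24 = 0 ∧ WE q e = g := by
  classical
  obtain ⟨ext, hext⟩ : ∃ ext : ((j : Fin 24) → {t : K // fst' j.1 = snd' j.1 → t ^ q = t}) → ℕ → K,
      ext = fun f j => if h : j < 24 then (f ⟨j, h⟩).1 else 0 := ⟨_, rfl⟩
  have hfix : ∀ f, Fixed q false (ext f) := by
    intro f j hj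
    rw [hext]
    by_cases h : j < 24
    · simp only [dif_pos h]; exact (f ⟨j, h⟩).2 ((fx_iff h).1 hj)
    · simp only [dif_neg h]; exact zero_pow (q_pos X).ne'
  have hmem : ∀ f, WE q (ext f) ∈ chevE6.posUnipotent K ⊓ twistedE6 K q := fun f =>
    ⟨WE_mem_U X _, WE_mem X fun j hj hh => hfix f j ((fx_iff hj).2 hh)⟩
  obtain ⟨Φ, hΦ⟩ : ∃ Φ : ((j : Fin 24) → {t : K // fst' j.1 = snd' j.1 → t ^ q = t}) →
      ↥(chevE6.posUnipotent K ⊓ twistedE6 K q), Φ = fun f => ⟨WE q (ext f), hmem f⟩ := ⟨_, rfl⟩
  have hinj : Function.Injective Φ := by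
    intro f f' e
    rw [hΦ] at e
    have := WE_inj X hq (hfix f) (hfix f') (congrArg Subtype.val e)
    funext j
    have hj := this j.1 j.2
    rw [hext] at hj
    simp only [dif_pos j.2] at hj
    exact Subtype.ext hj
  have hcard : Nat.card ((j : Fin 24) → {t : K // fst' j.1 = snd' j.1 → t ^ q = t}) = q ^ 36 := by
    rw [Nat.card_pi, ← orb_exp, ← Finset.prod_pow_eq_pow_sum]
    refine Finset.prod_congr rfl fun j _ => ?_
    by_cases h : fst' j.1 = snd' j.1
    · rw [if_pos h, pow_one]
      refine (Nat.card_congr (Equiv.subtypeEquivRight fun t => ?_)).trans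
        (Twist.card_powfix hq.two_le hK)
      simp [h]
    · rw [if_neg h, ← hK, ← Nat.card_eq_fintype_card]
      exact Nat.card_congr (Equiv.subtypeUnivEquiv fun t hh => absurd hh h)
  have hbij := (Nat.bijective_iff_injective_and_card Φ).2
    ⟨hinj, hcard.trans (Twist.E6.card_U X hq).symm⟩
  obtain ⟨f, hf⟩ := hbij.2 ⟨g, hU, hg⟩
  refine ⟨ext f, hfix f, ?_, ?_⟩
  · rw [hext]; simp
  · rw [hΦ] at hf; exact congrArg Subtype.val hf

/-- The involutions of the twisted group are conjugate into its unipotent subgroup. -/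
theorem exists_conj_U {y : GL chevE6.Idx K} (hy : y ∈ twistedE6 K q) (h2 : orderOf y = 2)
    (hq2 : 2 ∣ q) : ∃ x ∈ twistedE6 K q, x * y * x⁻¹ ∈ chevE6.posUnipotent K := by
  classical
  haveI : Fact (Nat.Prime 2) := ⟨Nat.prime_two⟩
  obtain ⟨H, hH⟩ : ∃ H, H = (chevE6.posUnipotent K).subgroupOf (twistedE6 K q) := ⟨_, rfl⟩
  have hU : Nat.card H = q ^ 36 := by
    have e := Nat.card_congr (Subgroup.subgroupOfEquivOfLe
      (inf_le_right : chevE6.posUnipotent K ⊓ twistedE6 K q ≤ twistedE6 K q)).toEquiv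
    rw [Subgroup.inf_subgroupOf_right, ← hH] at e
    exact e.trans (Twist.E6.card_U X hq)
  have hidx : ¬ 2 ∣ H.index := by
    intro h
    have hc := Twist.E6.card_group X hq
    rw [← Subgroup.card_mul_index H, hU] at hc
    have hd : ∀ n, n ≠ 0 → 2 ∣ q ^ n := fun n hn => dvd_pow hq2 hn
    have h1 : ∀ n, n ≠ 0 → ¬ 2 ∣ q ^ n - 1 := fun n hn => by
      have := hd n hn
      have := Nat.one_le_pow n q hq.pos
      omega
    have h1' : ∀ n, n ≠ 0 → ¬ 2 ∣ q ^ n + 1 := fun n hn => by
      have := hd n hn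
      omega
    simp only [mul_assoc] at hc
    rw [← mul_assoc (Nat.gcd 3 (q + 1)), mul_comm (Nat.gcd 3 (q + 1)), mul_assoc] at hc
    have e := Nat.eq_of_mul_eq_mul_left (pow_pos hq.pos 36) hc
    have := e ▸ dvd_mul_of_dvd_right h (Nat.gcd 3 (q + 1))
    simp only [Nat.prime_two.dvd_mul] at this
    rcases this with h | h | h | h | h | h
    exacts [h1 2 (by norm_num) h, h1' 5 (by norm_num) h, h1 6 (by norm_num) h,
      h1 8 (by norm_num) h, h1' 9 (by norm_num) h, h1 12 (by norm_num) h]
  haveI : Finite (twistedE6 K q) := inferInstance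
  obtain ⟨x, hx⟩ := Singer.exists_conj_mem H hidx (y := ⟨y, hy⟩)
    ((Subgroup.orderOf_mk _ _).trans h2)
  refine ⟨(x : GL chevE6.Idx K)⁻¹, inv_mem x.2, ?_⟩
  rw [hH, Subgroup.mem_subgroupOf] at hx
  simpa [mul_assoc] using hx

end Cfsg.Agent.Chevalley.InvolCert.TwE6
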