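import Cfsg.Agent.Lib.Chevalley.InvolCert.TwE6.Defs

/-! The nodes of the certificate of the twisted groups of type E6. -/

set_option autoImplicit false
set_option maxHeartbeats 2000000
set_option maxRecDepth 100000

namespace Cfsg.Agent.Chevalley.InvolCert.TwE6

/-- Part 0 of the nodes. -/
def c0 : List Node := [
⟨0,[],.empty⟩,
⟨70368744177664,[],.fin 0 [(0,[-1,1,-1,-1,-1,-1])]⟩,
⟨140737488355328,[],.split 23 0 1⟩,
⟨17592186044416,[],.map [0] [[],[],[],[],[],[],[],[],[],[],[],[],[],[],[],[],[],[],[],[],[],[],[],[[44]]] 1⟩,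
⟨158329674399744,[],.kill 23 3 .one [[],[],[],[],[],[],[],[],[],[],[],[],[],[],[],[],[],[],[],[],[],[],[[44]],[[44,48],[46]]] 3⟩,
⟨175921860444160,[],.split 22 2 4⟩,
⟨145135534866432,[],.map [1] [[],[],[],[],[],[],[],[],[],[],[],[],[],[],[],[],[],[],[],[],[],[],[[42]],[[46]]] 4⟩,
⟨180319906955264,[],.kill 22 2 .one [[],[],[],[],[],[],[],[],[],[],[],[],[],[],[],[],[],[],[],[],[],[[42]],[[42,48],[44]],[[46]]] 6⟩,
⟨184717953466368,[],.split 21 5 7⟩,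
⟨1099511627776,[],.fin 1 [(0,[0,-1,-1,-1,0,1])]⟩,
⟨141836999983104,[],.kill 23 9 .trace [[],[],[],[],[],[],[],[],[],[],[],[],[],[],[],[],[],[],[],[],[[40]],[],[],[[41,48],[46],[40,49]]] 9⟩,
⟨177021372071936,[],.kill 22 5 .trace [[],[],[],[],[],[],[],[],[],[],[],[],[],[],[],[],[],[],[],[],[[40]],[],[[41,48],[44],[40,49]],[[46]]] 10⟩,
⟨185817465094144,[],.kill 21 1 .trace [[],[],[],[],[],[],[],[],[],[],[],[],[],[],[],[],[],[],[],[],[[40]],[[41,48],[42],[40,49]],[[44]],[[46]]] 11⟩,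
⟨186916976721920,[],.split 20 8 12⟩,
⟨1073741824,[],.map [0,1,2,1,0] [[],[],[],[],[],[],[],[],[],[],[],[],[],[],[],[],[],[],[],[],[],[],[],[[30]]] 1⟩,
⟨70369817919488,[],.fin 2 [(1,[1,0,-1,-1,-1,1]),(1,[1,2,-2,-2,-2,1])]⟩,
⟨140738562097152,[],.split 23 14 15⟩,
⟨35201551958016,[],.map [0] [[],[],[],[],[],[],[],[],[],[],[],[],[],[],[],[[34]],[],[],[],[],[],[],[],[[44]]] 16⟩,
⟨175939040313344,[],.kill 23 14 .one [[],[],[],[],[],[],[],[],[],[],[],[],[],[],[],[],[],[[34]],[],[],[],[],[[44]],[[34,48],[46]]] 17⟩,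
⟨149808459284480,[],.map [1] [[],[],[],[],[],[],[],[],[],[],[],[],[],[],[],[],[],[[38]],[],[],[],[],[[42]],[[46]]] 18⟩,
⟨184992831373312,[],.kill 22 8 .one [[],[],[],[],[],[],[],[],[],[],[],[],[],[],[],[],[],[],[],[[38]],[],[[42]],[[38,48],[44]],[[46]]] 19⟩,
⟨187191854628864,[],.kill 20 1 .one [[],[],[],[],[],[],[],[],[],[],[],[],[],[],[],[],[],[],[],[[38]],[[38,48],[40]],[[41,48],[42],[38,48,49],[40,49]],[[44]],[[46]]] 20⟩,
⟨187466732535808,[],.split 19 13 21⟩,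
⟨1048576,[],.map [3,2,1,0] [[],[],[],[],[],[],[],[],[],[],[],[],[],[],[],[],[],[],[],[],[[20]],[],[],[]] 9⟩,
⟨70368745226240,[],.fin 3 [(0,[-1,0,0,-1,1,0]),(0,[-1,1,1,-1,1,-1])]⟩,
⟨140737489403904,[],.split 23 23 24⟩,
⟨35184439197696,[],.map [0] [[],[],[],[],[],[],[],[],[],[],[[26]],[],[],[],[],[],[],[],[],[],[],[],[],[[44]]] 25⟩,
⟨175921927553024,[],.kill 23 16 .trace [[],[],[],[],[],[],[],[],[],[],[],[],[],[[26]],[],[],[],[],[],[],[],[],[[44]],[[27,48],[46],[26,49]]] 26⟩,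
⟨149537876344832,[],.map [1] [[],[],[],[],[],[],[],[],[],[],[],[],[],[[32]],[],[],[],[],[],[],[],[],[[42]],[[46]]] 27⟩,
⟨184722248433664,[],.kill 22 10 .trace [[],[],[],[],[],[],[],[],[],[],[],[],[],[],[],[],[[32]],[],[],[],[],[[42]],[[33,48],[44],[32,49]],[[46]]] 28⟩,
⟨177021908942848,[],.map [2,3] [[],[],[],[],[],[],[],[],[],[],[],[],[],[],[],[],[[40]],[],[],[],[],[[28]],[[44]],[[46]]] 29⟩,
⟨185818001965056,[],.kill 21 1 .trace [[],[],[],[],[],[],[],[],[],[],[],[],[],[],[[28]],[],[],[],[],[],[[40]],[[41,48],[42],[40,49]],[[44]],[[46]]] 30⟩,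
⟨185336428756992,[],.map [3] [[],[],[],[],[],[],[],[],[],[],[],[],[],[],[[38]],[],[],[],[],[],[[36]],[[42]],[[44]],[[46]]] 31⟩,
⟨187535452012544,[],.kill 20 0 .one [[],[],[],[],[],[],[],[],[],[],[],[],[],[],[],[],[],[],[[36]],[[38]],[[40],[36,49]],[[42]],[[44]],[[46]]] 32⟩,
⟨187604171489280,[],.split 18 22 33⟩,
⟨140737488420864,[],.map [3] [[],[],[],[],[],[],[],[],[],[],[],[],[],[],[],[[16]],[],[],[],[],[],[],[],[[46]]] 16⟩,
⟨1099511693312,[],.map [0,1,2,3,1,0] [[],[],[],[],[],[],[],[],[],[],[[40]],[],[],[],[],[],[],[],[],[],[],[],[],[[16]]] 24⟩,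
⟨141837000048640,[],.kill 23 9 .trace [[],[],[],[],[],[],[],[],[[16]],[],[],[],[],[],[],[],[],[],[],[],[[40]],[],[],[[41,48],[46],[40,49]]] 36⟩,
⟨142936511676416,[],.split 20 35 37⟩,
⟨37383412121600,[],.map [0] [[],[],[],[],[],[],[],[],[[24]],[],[],[],[],[],[],[],[],[],[],[],[[40]],[],[],[[44]]] 38⟩,
⟨178120900476928,[],.kill 23 19 .one [[],[],[],[],[],[],[],[],[],[],[],[],[[24]],[],[],[],[],[],[],[],[[40]],[],[[44]],[[24,48],[46]]] 39⟩,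
⟨151732873068544,[],.map [1] [[],[],[],[],[],[],[],[],[],[],[],[],[[28]],[],[],[],[],[],[],[],[[40]],[],[[42]],[[46]]] 40⟩,
⟨186917245157376,[],.kill 22 15 .one [[],[],[],[],[],[],[],[],[],[],[],[],[],[],[[28]],[],[],[],[],[],[[40]],[[42]],[[28,48],[44]],[[46]]] 41⟩,
⟨185130270326784,[],.map [3] [[],[],[],[],[],[],[],[],[],[],[],[],[],[],[[38]],[],[],[],[],[],[[36]],[[42]],[[44]],[[46]]] 42⟩,
⟨187329293582336,[],.kill 20 1 .one [[],[],[],[],[],[],[],[],[],[],[],[],[],[],[],[],[],[],[[36]],[[38]],[[38,48],[40]],[[41,48],[42],[38,48,49],[40,49]],[[44]],[[46]]] 43⟩,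
⟨187071595544576,[],.map [1] [[],[],[],[],[],[],[],[],[],[],[],[],[],[],[],[],[],[],[[36]],[[34]],[[40]],[[44]],[[42]],[[46]]] 44⟩,
⟨187621351358464,[],.kill 19 2 .one [[],[],[],[],[],[],[],[],[],[],[],[],[],[],[],[],[],[[34]],[[36]],[[34,48],[38]],[[40]],[[42]],[[42,48],[44]],[[46]]] 45⟩,
⟨187638531227648,[],.split 17 34 46⟩,
⟨140737488355584,[],.map [2,1] [[],[],[],[],[],[],[],[],[],[],[[8]],[],[],[],[],[],[],[],[],[],[],[],[],[[46]]] 25⟩,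
⟨17592186044672,[],.map [2,1,0] [[],[],[],[],[],[],[],[],[],[],[[8]],[],[],[],[],[],[],[],[],[],[],[],[],[[44]]] 24⟩,
⟨158329674400000,[],.kill 23 3 .one [[],[],[],[],[[8]],[],[],[],[],[],[],[],[],[],[],[],[],[],[],[],[],[],[[44]],[[44,48],[46]]] 49⟩,
⟨175921860444416,[],.split 22 48 50⟩,
⟨43980469305344,[],.map [1,0] [[],[],[],[],[[22]],[],[],[],[],[],[],[],[],[],[],[],[],[],[],[],[],[],[[42]],[[44]]] 51⟩,
⟨184717957660672,[],.kill 23 18 .trace [[],[],[],[],[],[],[],[],[],[],[],[[22]],[],[],[],[],[],[],[],[],[],[[42]],[[44]],[[23,48],[46],[22,49]]] 52⟩,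
⟨176471683366912,[],.map [2] [[],[],[],[],[],[],[],[],[],[],[],[[26]],[],[],[],[],[],[],[],[],[],[[38]],[[44]],[[46]]] 53⟩,
⟨185267776389120,[],.kill 21 10 .trace [[],[],[],[],[],[],[],[],[],[],[],[],[],[[26]],[],[],[],[],[],[[38]],[],[[27,48],[42],[26,49]],[[44]],[[46]]] 54⟩,
⟨177021942497280,[],.map [1,2,3] [[],[],[],[],[],[],[],[],[],[],[],[],[],[[40]],[],[],[],[],[],[[24]],[],[[44]],[[28]],[[46]]] 55⟩,
⟨185818035519488,[],.kill 21 1 .trace [[],[],[],[],[],[],[],[],[],[],[],[],[[24]],[],[[28]],[],[],[],[],[],[[40]],[[41,48],[42],[40,49]],[[44]],[[46]]] 56⟩,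
⟨185370788495360,[],.map [3] [[],[],[],[],[],[],[],[],[],[],[],[],[[34]],[],[[38]],[],[],[],[],[],[[36]],[[42]],[[44]],[[46]]] 57⟩,
⟨187569811750912,[],.kill 20 0 .one [[],[],[],[],[],[],[],[],[],[],[],[],[],[],[],[],[],[[34]],[[36]],[[38]],[[40],[36,49]],[[42]],[[44]],[[46]]] 58⟩,
⟨187505387241472,[],.map [2] [[],[],[],[],[],[],[],[],[],[],[],[],[],[],[],[],[],[[34]],[[32]],[[42]],[[41]],[[38]],[[44]],[[46]]] 59⟩,
⟨187642826194944,[],.kill 18 1 .one [[],[],[],[],[],[],[],[],[],[],[],[],[],[],[],[],[[32]],[[34]],[[32,48],[36]],[[38]],[[38,48],[40]],[[41,48],[42],[38,48,49],[40,49]],[[44]],[[46]]] 60⟩,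
⟨187647121162240,[],.split 16 47 61⟩,
⟨142936511610896,[],.map [2] [[],[],[],[],[],[],[],[],[[4]],[],[],[],[],[],[],[],[],[],[],[],[[41]],[],[],[[46]]] 38⟩]

/-- Part 1 of the nodes. -/
def c1 : List Node := [
⟨140806207832080,[],.map [2,3] [[],[],[],[],[],[],[],[],[[4]],[],[],[],[],[],[],[],[],[],[],[],[[37]],[],[],[[46]]] 37⟩,
⟨143005231087632,[],.kill 20 0 .one [[],[],[[4]],[],[],[],[],[],[],[],[],[],[],[],[],[],[],[],[[36]],[],[[40],[36,49]],[],[],[[46]]] 64⟩,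
⟨143073950564368,[],.split 18 63 65⟩,
⟨37520834301952,[],.map [0] [[],[],[[12]],[],[],[],[],[],[],[],[],[],[],[],[],[],[],[],[[36]],[],[[40]],[],[],[[44]]] 66⟩,
⟨178258322657280,[],.kill 23 21 .one [[],[],[],[],[],[],[[12]],[],[],[],[],[],[],[],[],[],[],[],[[36]],[],[[40]],[],[[44]],[[12,48],[46]]] 67⟩,
⟨178129490411520,[],.map [2] [[],[],[],[],[],[],[[24]],[],[],[],[],[],[],[],[],[],[],[],[[32]],[],[[41]],[],[[44]],[[46]]] 68⟩,
⟨186925583433728,[],.kill 21 15 .one [[],[],[],[],[],[],[],[],[],[],[],[],[[24]],[],[],[],[[32]],[],[],[],[[40]],[[24,48],[42]],[[44]],[[46]]] 69⟩,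
⟨185130404544512,[],.map [3,1] [[],[],[],[],[],[],[],[],[],[],[],[],[[38]],[],[],[],[[27]],[],[],[],[[36]],[[44]],[[42]],[[46]]] 70⟩,
⟨187329427800064,[],.kill 20 1 .one [[],[],[],[],[],[],[],[],[],[],[],[],[],[[26]],[],[],[],[],[[36]],[[38]],[[38,48],[40]],[[41,48],[42],[38,48,49],[40,49]],[[44]],[[46]]] 71⟩,
⟨187080185479168,[],.map [1] [[],[],[],[],[],[],[],[],[],[],[],[],[],[[32]],[],[],[],[],[[36]],[[34]],[[40]],[[44]],[[42]],[[46]]] 72⟩,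
⟨187629941293056,[],.kill 19 2 .one [[],[],[],[],[],[],[],[],[],[],[],[],[],[],[],[],[[32]],[[34]],[[36]],[[34,48],[38]],[[40]],[[42]],[[42,48],[44]],[[46]]] 73⟩,
⟨187613835165696,[],.map [0] [[],[],[],[],[],[],[],[],[],[],[],[],[],[],[],[],[[32]],[[30]],[[36]],[[38]],[[40]],[[42]],[[46]],[[44]]] 74⟩,
⟨187648194904064,[],.kill 17 3 .one [[],[],[],[],[],[],[],[],[],[],[],[],[],[],[],[[30]],[[32]],[[30,48],[34]],[[36]],[[38]],[[40]],[[42]],[[44]],[[44,48],[46]]] 75⟩,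
⟨187649268645888,[],.split 15 62 76⟩,
⟨1073807360,[],.map [3,0,1,2,1,0] [[],[],[],[],[],[],[],[],[],[],[],[],[],[],[],[[16]],[],[],[],[],[],[],[],[[30]]] 15⟩,
⟨70369817985024,[],.fin 4 [(1,[0,0,1,-1,1,0]),(1,[1,0,1,-1,1,1]),(1,[1,2,2,-2,2,1])]⟩,
⟨140738562162688,[],.split 23 78 79⟩,
⟨142937585418240,[],.kill 20 9 .one [[],[],[],[],[],[],[],[],[[16]],[],[],[],[],[],[],[[30]],[],[],[],[],[[30,48],[40]],[],[],[[41,48],[46],[30,48,49],[40,49]]] 80⟩,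
⟨142938659160064,[],.split 15 38 81⟩,
⟨37417771859968,[],.map [0] [[],[],[],[],[],[],[],[],[[24]],[],[],[],[],[],[],[[34]],[],[],[],[],[[40]],[],[],[[44]]] 82⟩,
⟨178155260215296,[],.kill 23 19 .one [[],[],[],[],[],[],[],[],[],[],[],[],[[24]],[],[],[],[],[[34]],[],[],[[40]],[],[[44]],[[24,48],[46]]] 83⟩,
⟨152282628882432,[],.map [1] [[],[],[],[],[],[],[],[],[],[],[],[],[[28]],[],[],[],[],[[38]],[],[],[[40]],[],[[42]],[[46]]] 84⟩,
⟨187467000971264,[],.kill 22 15 .one [[],[],[],[],[],[],[],[],[],[],[],[],[],[],[[28]],[],[],[],[],[[38]],[[40]],[[42]],[[28,48],[44]],[[46]]] 85⟩,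
⟨187604439924736,[],.kill 18 4 .one [[],[],[],[],[],[],[],[],[],[],[],[],[],[],[[28]],[],[],[],[[28,48],[36]],[[38]],[[40]],[[37,48],[42],[28,48,49],[36,49]],[[44]],[[46]]] 86⟩,
⟨187649537081344,[(34,15),(35,17)],.kill 16 0 .one [[],[],[],[],[],[],[],[],[],[],[],[],[],[],[[28]],[],[[28,48],[32]],[],[[36]],[[33,48],[38],[28,48,49],[32,49]],[[40],[36,49]],[[42]],[[44]],[[46]]] 87⟩,
⟨187649805516800,[],.split 14 77 88⟩,
⟨175921860444161,[],.map [2] [[],[],[],[],[[0]],[],[],[],[],[],[],[],[],[],[],[],[],[],[],[],[],[],[[44]],[[46]]] 51⟩,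
⟨145135534866433,[],.map [2,1] [[],[],[],[],[[0]],[],[],[],[],[],[],[],[],[],[],[],[],[],[],[],[],[],[[42]],[[46]]] 50⟩,
⟨180319906955265,[],.kill 22 2 .one [[[0]],[],[],[],[],[],[],[],[],[],[],[],[],[],[],[],[],[],[],[],[],[[42]],[[42,48],[44]],[[46]]] 91⟩,
⟨184717953466369,[],.split 21 90 92⟩,
⟨176471616258304,[],.map [2] [[[8]],[],[],[],[],[],[],[],[],[],[],[],[],[],[],[],[],[],[],[],[],[[38]],[[44]],[[46]]] 93⟩,
⟨185267709280512,[],.kill 21 18 .trace [[],[],[],[],[[8]],[],[],[],[],[],[],[],[],[],[],[],[],[],[],[[38]],[],[[9,48],[42],[8,49]],[[44]],[[46]]] 94⟩,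
⟨185267709280257,[],.map [2] [[],[],[],[],[[0]],[],[],[],[],[],[],[],[],[],[],[],[],[],[],[[42]],[],[[38]],[[44]],[[46]]] 95⟩,
⟨184722248433665,[],.kill 16 14 (.ratio 29) [[[0]],[],[],[],[],[],[],[],[],[],[],[],[],[],[],[],[[0,48],[32]],[],[],[[0,1,48]],[],[[42]],[[44]],[[46]]] 96⟩,
⟨184726543400961,[],.split 16 93 97⟩,
⟨1073742848,[],.map [2,3,0,1,2,1,0] [[],[],[],[],[],[],[],[],[],[],[[11]],[],[],[],[],[],[],[],[],[],[],[],[],[[30]]] 24⟩,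
⟨70369817920512,[],.fin 5 [(1,[-1,0,-1,1,1,1]),(1,[1,0,-1,1,-1,1]),(1,[1,2,-3,3,-3,1])]⟩,
⟨140738562098176,[],.split 23 99 100⟩,
⟨35201552220160,[],.map [0] [[],[],[],[],[],[[18]],[],[],[],[],[],[],[],[],[],[[34]],[],[],[],[],[],[],[],[[44]]] 101⟩,
⟨175939040575488,[],.kill 23 14 .one [[],[],[],[],[],[],[],[],[],[[18]],[],[],[],[],[],[],[],[[34]],[],[],[],[],[[44]],[[34,48],[46]]] 102⟩,
⟨175922934187008,[],.map [0] [[],[],[],[],[],[],[],[],[],[[10]],[],[],[],[],[],[],[],[[30]],[],[],[],[],[[46]],[[44]]] 103⟩,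
⟨141838073725952,[],.kill 20 17 (.ratio 34) [[],[],[],[],[],[[10]],[],[],[],[],[],[],[],[],[],[[30]],[],[],[],[],[[10,48],[40]],[],[[10,11,48]],[[46]]] 104⟩,
⟨142937585353728,[],.split 20 101 105⟩,
⟨35192962027521,[],.map [3,1,2,0] [[],[],[],[],[],[[0]],[],[],[],[],[],[],[],[],[],[[12]],[],[],[],[],[[32]],[],[],[[44]]] 106⟩,
⟨184726543405057,[(35,21)],.kill 23 21 .one [[[0]],[],[],[],[],[],[[12]],[],[],[],[],[],[],[],[],[],[[32]],[],[],[],[],[],[[44]],[[12,48],[46]]] 107⟩,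
⟨184726543409153,[],.split 6 98 108⟩,
⟨176609088766208,[],.map [2] [[[8]],[],[],[],[],[],[[24]],[],[],[],[],[],[],[],[],[],[[36]],[],[],[],[],[[38]],[[44]],[[46]]] 109⟩,
⟨185405181788416,[],.kill 21 18 .trace [[],[],[],[],[[8]],[],[],[],[],[],[],[],[[24]],[],[],[],[],[],[[36]],[[38]],[],[[9,48],[42],[8,49]],[[44]],[[46]]] 110⟩,
⟨187604205043968,[],.kill 20 16 .one [[],[],[],[],[[8]],[],[],[],[],[],[],[],[[24]],[],[],[],[],[],[[36]],[[38]],[[40],[8,49]],[[42]],[[44]],[[46]]] 111⟩,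
⟨187089312301056,[],.map [1] [[],[],[],[],[[14]],[],[],[],[],[],[],[],[[28]],[],[],[],[],[],[[36]],[[34]],[[40]],[[44]],[[42]],[[46]]] 112⟩,
⟨187639068114944,[],.kill 19 11 .trace [[],[],[],[],[],[],[],[[14]],[],[],[],[],[],[],[[28]],[],[],[[34]],[[36]],[[15,48],[38],[14,49]],[[40]],[[42]],[[44]],[[37,48],[46],[36,49]]] 113⟩,
⟨187606860038144,[],.map [0] [[],[],[],[],[],[],[],[[22]],[],[],[],[],[],[],[[28]],[],[],[[30]],[[36]],[[38]],[[40]],[[42]],[[46]],[[44]]] 114⟩,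
⟨187641219776512,[],.kill 17 4 .trace [[],[],[],[],[],[],[],[],[],[],[],[[22]],[],[],[[28]],[[30]],[],[[23,48],[34],[22,49]],[[28,48],[36]],[[38]],[[40]],[[37,48],[42],[28,48,49],[36,49]],[[44]],[[23,28,48],[46],[22,28,49]]] 115⟩,
⟨187512433672192,[],.map [2] [[],[],[],[],[],[],[],[],[],[],[],[[26]],[],[],[[28]],[[30]],[],[[34]],[[32]],[[42]],[[41]],[[38]],[[44]],[[46]]] 116⟩,
⟨187649872625664,[],.kill 18 5 .one [[],[],[],[],[],[],[],[],[],[],[],[],[],[[26]],[[28]],[[30]],[[32]],[[34]],[[26,48],[36]],[[38]],[[34,48],[40]],[[42]],[[41,48],[44],[34,48,49],[40,49]],[[46]]] 117⟩,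
⟨187649939734528,[],.split 13 89 118⟩,
⟨140737488420880,[],.map [2,3] [[],[],[],[],[],[],[],[],[[4]],[],[],[],[],[],[],[[16]],[],[],[],[],[],[],[],[[46]]] 80⟩,
⟨1099511693328,[],.map [3,2,0,1,2,3,1,0] [[],[],[],[],[],[[40]],[],[],[],[],[],[],[],[],[],[[4]],[],[],[],[],[],[],[],[[16]]] 100⟩,
⟨141837000048656,[],.kill 23 9 .trace [[],[],[[4]],[],[],[],[],[],[[16]],[],[],[],[],[],[],[],[],[],[],[],[[40]],[],[],[[41,48],[46],[40,49]]] 121⟩,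
⟨142936511676432,[],.split 20 120 122⟩,
⟨140876001050640,[],.map [3] [[],[],[[4]],[],[],[],[],[],[[30]],[],[],[],[],[],[],[],[],[],[],[],[[36]],[],[],[[46]]] 123⟩,
⟨143075024306192,[],.kill 20 9 .one [[],[],[[4]],[],[],[],[],[],[],[],[],[],[],[],[],[[30]],[],[],[[36]],[],[[30,48],[40]],[],[],[[41,48],[46],[30,48,49],[40,49]]] 124⟩,
⟨143076098048016,[],.split 15 66 125⟩,
⟨37555194040320,[],.map [0] [[],[],[[12]],[],[],[],[],[],[],[],[],[],[],[],[],[[34]],[],[],[[36]],[],[[40]],[],[],[[44]]] 126⟩]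

/-- Part 2 of the nodes. -/
def c2 : List Node := [
⟨178292682395648,[],.kill 23 21 .one [[],[],[],[],[],[],[[12]],[],[],[],[],[],[],[],[],[],[],[[34]],[[36]],[],[[40]],[],[[44]],[[12,48],[46]]] 127⟩,
⟨152282763100160,[],.map [2,1] [[],[],[],[],[],[],[[28]],[],[],[],[],[],[],[],[],[],[],[[38]],[[26]],[],[[41]],[],[[42]],[[46]]] 128⟩,
⟨187467135188992,[],.kill 22 15 .one [[],[],[],[],[],[],[],[],[],[],[],[],[],[[26]],[[28]],[],[],[],[],[[38]],[[40]],[[42]],[[28,48],[44]],[[46]]] 129⟩,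
⟨186959943172096,[],.map [1] [[],[],[],[],[],[],[],[],[],[],[],[],[],[[32]],[[24]],[],[],[],[],[[34]],[[40]],[[44]],[[42]],[[46]]] 130⟩,
⟨187647137939456,[(35,19)],.kill 18 7 .one [[],[],[],[],[],[],[],[],[],[],[],[],[[24]],[],[],[],[[32]],[[34]],[[24,48],[36]],[],[[40]],[[42]],[[37,48],[44],[24,48,49],[36,49]],[[46]]] 131⟩,
⟨187647674810368,[],.kill 14 2 .one [[],[],[],[],[],[],[],[],[],[],[],[],[[24]],[],[[24,48],[28]],[],[[32]],[[34]],[[36]],[[34,48],[38]],[[40]],[[42]],[[42,48],[44]],[[46]]] 132⟩,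
⟨187649956511744,[(33,15)],.kill 13 0 .one [[],[],[],[],[],[],[],[],[],[],[],[],[[24]],[[24,48],[26]],[[28]],[],[[28,48],[32]],[[27,48],[34],[24,48,49],[26,49]],[[36]],[[33,48],[38],[28,48,49],[32,49]],[[40],[36,49]],[[42]],[[44]],[[27,28,48],[46],[24,28,48,49],[26,28,49]]] 133⟩,
⟨187649973288960,[],.split 12 119 134⟩,
⟨184718087684225,[],.map [1] [[[0]],[],[],[],[],[],[[6]],[],[],[],[],[],[],[],[],[],[[26]],[],[],[],[],[[44]],[[42]],[[46]]] 109⟩,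
⟨185267843498113,[],.kill 19 16 .trace [[[0]],[],[],[[6]],[],[],[],[],[],[],[],[],[],[[26]],[],[],[],[],[],[[1,48],[38],[0,49]],[],[[42]],[[44]],[[27,48],[46],[26,49]]] 136⟩,
⟨184760903147521,[],.map [1] [[[0]],[],[],[[12]],[],[],[],[],[],[],[],[],[],[[32]],[],[],[],[],[],[[34]],[],[[44]],[[42]],[[46]]] 137⟩,
⟨37400575475712,[],.map [0] [[],[],[],[],[],[[18]],[],[],[],[],[],[],[],[],[],[[34]],[],[],[],[],[[40]],[],[],[[44]]] 106⟩,
⟨178138063831040,[],.kill 23 14 .one [[],[],[],[],[],[],[],[],[],[[18]],[],[],[],[],[],[],[],[[34]],[],[],[[40]],[],[[44]],[[34,48],[46]]] 139⟩,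
⟨152007482802176,[],.map [1] [[],[],[],[],[],[],[],[],[],[[18]],[],[],[],[],[],[],[],[[38]],[],[],[[40]],[],[[42]],[[46]]] 140⟩,
⟨187191854891008,[],.kill 22 8 .one [[],[],[],[],[],[],[],[],[],[[18]],[],[],[],[],[],[],[],[],[],[[38]],[[40]],[[42]],[[38,48],[44]],[[46]]] 141⟩,
⟨184855392485632,[],.map [3,0,1,0] [[],[],[],[],[],[],[],[],[],[[8]],[],[],[],[],[],[],[],[],[],[[16]],[[36]],[[46]],[[44]],[[42]]] 142⟩,
⟨176093659201792,[],.kill 17 11 .trace [[],[],[],[],[[8]],[],[],[],[[16]],[],[],[],[],[],[],[],[],[[9,48],[34],[8,49]],[[16,48],[36]],[],[],[[9,16,48],[8,16,49]],[[44]],[[37,48],[46],[16,48,49],[36,49]]] 143⟩,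
⟨175964810117137,[],.map [2] [[],[],[],[],[[0]],[],[],[],[[4]],[],[],[],[],[],[],[],[],[[34]],[[32]],[],[],[],[[44]],[[46]]] 144⟩,
⟨184760903147537,[(34,21)],.kill 6 3 .one [[[0]],[],[[4]],[],[],[],[[4,48],[12]],[],[],[],[],[],[],[],[],[],[[32]],[[34]],[],[],[],[],[[44]],[[44,48],[46]]] 145⟩,
⟨184760903147553,[],.split 2 138 146⟩,
⟨150255672901632,[],.map [2,1] [[[14]],[],[[16]],[],[],[],[[28]],[],[],[],[],[],[],[],[],[],[[36]],[[38]],[],[],[],[[34]],[[42]],[[46]]] 147⟩,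
⟨185440044990464,[],.kill 22 18 .trace [[],[],[],[],[],[],[],[[14]],[[16]],[],[],[],[],[],[[28]],[],[],[[34]],[[36]],[[38]],[],[[42]],[[15,48],[44],[14,49]],[[46]]] 148⟩,
⟨187639068246016,[],.kill 20 13 .one [[],[],[],[],[],[],[],[[14]],[[16]],[],[],[],[],[],[[28]],[],[],[[34]],[[36]],[[38]],[[40],[14,49]],[[42]],[[44]],[[46]]] 149⟩,
⟨187606893592576,[],.map [0] [[],[],[],[],[],[],[],[[22]],[[24]],[],[],[],[],[],[[28]],[],[],[[30]],[[36]],[[38]],[[40]],[[42]],[[46]],[[44]]] 150⟩,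
⟨187641253330944,[],.kill 17 4 .trace [[],[],[],[],[],[],[],[],[],[],[],[[22]],[[24]],[],[[28]],[[30]],[],[[23,48],[34],[22,49]],[[28,48],[36]],[[38]],[[40]],[[37,48],[42],[28,48,49],[36,49]],[[44]],[[23,28,48],[46],[22,28,49]]] 151⟩,
⟨187512433680384,[],.map [2] [[],[],[],[],[],[],[],[],[],[],[],[[26]],[[12]],[],[[28]],[[30]],[],[[34]],[[32]],[[42]],[[41]],[[38]],[[44]],[[46]]] 152⟩,
⟨187649872633856,[],.kill 18 5 .one [[],[],[],[],[],[],[[12]],[],[],[],[],[],[],[[26]],[[28]],[[30]],[[32]],[[34]],[[26,48],[36]],[[38]],[[34,48],[40]],[[42]],[[41,48],[44],[34,48,49],[40,49]],[[46]]] 153⟩,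
⟨187649843265536,[],.map [2] [[],[],[],[],[],[],[[24]],[],[],[],[],[],[],[[22]],[[28]],[[30]],[[36]],[[34]],[[32]],[[42]],[[41]],[[38]],[[44]],[[46]]] 154⟩,
⟨187649977483264,[],.kill 13 1 .one [[],[],[],[],[],[],[],[],[],[],[],[[22]],[[24]],[[26],[22,49]],[[28]],[[30]],[[32]],[[34]],[[32,48],[36]],[[38]],[[38,48],[40]],[[41,48],[42],[38,48,49],[40,49]],[[44]],[[46]]] 155⟩,
⟨187649981677568,[],.split 11 135 156⟩,
⟨184718087684097,[],.map [1] [[[0]],[],[],[],[],[],[],[],[],[],[],[],[],[],[],[],[[26]],[],[],[],[],[[44]],[[42]],[[46]]] 98⟩,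
⟨185267843497985,[],.kill 19 16 .trace [[[0]],[],[],[],[],[],[],[],[],[],[],[],[],[[26]],[],[],[],[],[],[[1,48],[38],[0,49]],[],[[42]],[[44]],[[27,48],[46],[26,49]]] 158⟩,
⟨184760903139329,[],.map [1] [[[0]],[],[],[],[],[],[],[],[],[],[],[],[],[[32]],[],[],[],[],[],[[34]],[],[[44]],[[42]],[[46]]] 159⟩,
⟨184726610509825,[],.kill 13 12 (.ratio 27) [[[0]],[],[],[],[],[],[],[],[],[],[],[],[],[[0,48],[26]],[],[],[[32]],[[0,1,48]],[],[],[],[[42]],[[44]],[[46]]] 160⟩,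
⟨184726677618689,[],.split 13 98 161⟩,
⟨184718089781249,[],.map [0,1] [[[0]],[],[],[],[],[],[],[],[],[],[],[],[],[[20]],[],[],[[26]],[],[],[],[],[[44]],[[46]],[[42]]] 162⟩,
⟨185267845595137,[],.kill 19 16 .trace [[[0]],[],[],[],[],[],[],[],[],[],[[20]],[],[],[[26]],[],[],[],[],[],[[1,48],[38],[0,49]],[],[[42]],[[21,48],[44],[20,49]],[[27,48],[46],[26,49]]] 163⟩,
⟨184760905236481,[],.map [1] [[[0]],[],[],[],[],[],[],[],[],[],[[20]],[],[],[[32]],[],[],[],[],[],[[34]],[],[[44]],[[42]],[[46]]] 164⟩,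
⟨140738562097156,[],.map [1] [[],[],[],[],[],[[2]],[],[],[],[],[],[],[],[],[],[[30]],[],[],[],[],[],[],[],[[46]]] 101⟩,
⟨1099511758864,[],.map [3,2,0,1,2,3,1,0] [[],[],[],[],[],[[40]],[],[],[],[],[],[],[],[],[],[[4]],[],[],[],[],[],[],[],[[16]]] 101⟩,
⟨141837000114192,[],.kill 23 9 .trace [[],[],[[4]],[],[],[],[],[],[[16]],[],[],[],[],[],[],[],[],[],[],[],[[40]],[],[],[[41,48],[46],[40,49]]] 167⟩,
⟨140738562228228,[],.map [3,2,0,1,2,3,0,1,0] [[],[],[[30]],[],[],[],[],[],[[46]],[],[],[],[],[],[],[],[],[],[],[],[[2]],[],[],[[16]]] 168⟩,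
⟨140738562098180,[],.kill 5 2 (.ratio 8) [[],[[2]],[],[],[],[[2,48],[10]],[],[],[[2,3,48]],[],[],[],[],[],[],[[30]],[],[],[],[],[],[],[],[[46]]] 169⟩,
⟨140738562099204,[],.split 5 166 170⟩,
⟨35201552482308,[],.map [0] [[],[[2]],[],[],[],[[18]],[],[],[],[],[],[],[],[],[],[[34]],[],[],[],[],[],[],[],[[44]]] 171⟩,
⟨175939040837636,[],.kill 23 14 .one [[],[[2]],[],[],[],[],[],[],[],[[18]],[],[],[],[],[],[],[],[[34]],[],[],[],[],[[44]],[[34,48],[46]]] 172⟩,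
⟨175921862541329,[],.map [3,2,0] [[],[[0]],[],[],[],[],[],[],[],[[20]],[],[],[],[],[],[],[],[[4]],[],[],[],[],[[46]],[[44]]] 173⟩,
⟨185302071115793,[(29,17),(34,21)],.kill 19 16 .trace [[[0]],[],[[4]],[],[],[],[],[],[],[],[[20]],[],[],[],[],[],[],[],[],[[1,48],[38],[0,49]],[],[],[[21,48],[44],[20,49]],[[46]]] 174⟩,
⟨184760905236497,[],.kill 16 13 .one [[[0]],[],[[4]],[],[],[],[],[],[],[],[[20]],[],[],[],[],[],[[4,48],[32]],[[1,48],[34],[0,49]],[],[[1,4,48],[0,4,49]],[],[[21,48],[42],[20,49]],[[4,21,48],[44],[4,20,49]],[[33,48],[46],[4,48,49],[32,49]]] 175⟩,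
⟨184760905236513,[],.split 2 165 176⟩,
⟨184728825110529,[],.map [0] [[[0]],[],[[12]],[],[],[],[],[],[],[],[[26]],[],[],[],[],[],[[32]],[[30]],[],[],[],[[42]],[[46]],[[44]]] 177⟩,
⟨184763050623041,[],.map [0,1] [[[0]],[],[[6]],[],[],[],[],[],[],[],[[32]],[],[],[],[],[],[],[[30]],[],[[34]],[],[[44]],[[46]],[[42]]] 175⟩,
⟨184728825102401,[],.kill 13 10 .one [[[0]],[],[],[[6]],[],[],[],[],[],[],[],[],[],[[6,48],[26]],[],[[1,48],[30],[0,49]],[[32]],[[1,6,48],[0,6,49]],[],[],[],[[27,48],[42],[6,48,49],[26,49]],[[33,48],[44],[32,49]],[[46]]] 179⟩,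
⟨184728825110593,[],.kill 6 2 .one [[[0]],[],[],[[6]],[],[],[[6,48],[12]],[],[],[],[],[],[],[[26]],[],[[30]],[[26,48],[32]],[],[],[],[],[[42]],[[42,48],[44]],[[26,27,48],[46]]] 180⟩,
⟨184728825110657,[],.split 3 178 181⟩,
⟨176611244638592,[],.map [2] [[[8]],[],[],[[6]],[],[],[[24]],[],[],[],[],[],[],[[22]],[],[[30]],[[36]],[],[],[],[],[[38]],[[44]],[[46]]] 182⟩,
⟨185407337660800,[],.kill 21 18 .trace [[],[],[],[[6]],[[8]],[],[],[],[],[],[],[[22]],[[24]],[],[],[[30]],[],[],[[36]],[[38]],[],[[9,48],[42],[8,49]],[[44]],[[23,48],[46],[22,49]]] 183⟩,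
⟨187606360916352,[],.kill 20 16 .one [[],[],[],[[6]],[[8]],[],[],[],[],[],[],[[22]],[[24]],[],[],[[30]],[],[],[[36]],[[38]],[[40],[8,49]],[[42]],[[44]],[[46]]] 184⟩,
⟨187091468181504,[],.map [1] [[],[],[],[[12]],[[14]],[],[],[],[],[],[],[[22]],[[28]],[],[],[[30]],[],[],[[36]],[[34]],[[40]],[[44]],[[42]],[[46]]] 185⟩,
⟨187641223995392,[],.kill 19 11 .trace [[],[],[],[],[],[],[[12]],[[14]],[],[],[],[[22]],[],[],[[28]],[[30]],[],[[34]],[[36]],[[15,48],[38],[14,49]],[[40]],[[42]],[[44]],[[37,48],[46],[36,49]]] 186⟩,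
⟨187512535384064,[],.map [2] [[],[],[],[],[],[],[[24]],[[20]],[],[],[],[[26]],[],[],[[28]],[[30]],[],[[34]],[[32]],[[42]],[[41]],[[38]],[[44]],[[46]]] 187⟩,
⟨187649982726144,[(30,11)],.kill 18 9 .one [[],[],[],[],[],[],[],[],[],[],[[20]],[],[[24]],[[26]],[[28]],[[30]],[[32]],[[34]],[[20,48],[36]],[[38]],[[30,48],[40]],[[42]],[[44]],[[41,48],[46],[30,48,49],[40,49]]] 188⟩,
⟨187649983774720,[],.split 10 157 189⟩,
⟨175921860444164,[],.map [3] [[],[],[],[],[[2]],[],[],[],[],[],[],[],[],[],[],[],[],[],[],[],[],[],[[44]],[[46]]] 51⟩]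

/-- Part 3 of the nodes. -/
def c3 : List Node := [
⟨184717953466372,[],.map [3,0,1] [[],[],[],[],[],[],[],[],[],[],[],[[2]],[],[],[],[],[],[],[],[],[],[[44]],[[46]],[[42]]] 53⟩,
⟨177021372071940,[],.kill 20 19 (.ratio 33) [[],[[2]],[],[],[],[],[],[],[],[],[],[],[],[],[],[],[],[],[],[],[[2,48],[40]],[[2,3,48]],[[44]],[[46]]] 192⟩,
⟨178120883699716,[],.split 20 191 193⟩,
⟨37400575213572,[],.map [1,0] [[],[],[],[],[],[[2]],[],[],[],[],[],[],[],[],[],[[34]],[],[],[],[],[[40]],[],[],[[44]]] 106⟩,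
⟨178138063568900,[],.kill 23 14 .one [[],[[2]],[],[],[],[],[],[],[],[],[],[],[],[],[],[],[],[[34]],[],[],[[40]],[],[[44]],[[34,48],[46]]] 195⟩,
⟨178155243438084,[],.split 17 194 196⟩,
⟨178121957441540,[],.map [0] [[],[[2]],[],[],[],[],[],[],[],[],[],[],[],[],[],[],[],[[30]],[],[],[[40]],[],[[46]],[[44]]] 196⟩,
⟨178156317179908,[],.kill 17 3 .one [[],[[2]],[],[],[],[],[],[],[],[],[],[],[],[],[],[[30]],[],[[30,48],[34]],[],[],[[40]],[],[[44]],[[44,48],[46]]] 198⟩,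
⟨178157390921732,[],.split 15 197 199⟩,
⟨46763604180992,[],.map [1,0] [[],[[18]],[],[],[],[],[],[],[],[],[],[],[],[],[],[[34]],[],[[38]],[],[],[[40]],[],[[42]],[[44]]] 200⟩,
⟨187501092536320,[],.kill 23 20 .trace [[],[],[],[],[],[],[],[],[],[[18]],[],[],[],[],[],[],[],[[34]],[],[[38]],[[40]],[[42]],[[44]],[[19,48],[46],[18,49]]] 201⟩,
⟨187638531489792,[],.kill 18 10 .one [[],[],[],[],[],[],[],[],[],[[18]],[],[],[],[],[],[],[],[[34]],[[18,48],[36]],[[38]],[[40]],[[42]],[[44]],[[46]]] 202⟩,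
⟨187647121424384,[],.kill 16 7 .one [[],[],[],[],[],[],[],[],[],[[18]],[],[],[],[],[],[],[[19,48],[32]],[[34]],[[36]],[[38]],[[40]],[[42]],[[37,48],[44],[36,49]],[[46]]] 203⟩,
⟨187647658295296,[],.kill 14 5 .trace [[],[],[],[],[],[],[],[],[],[[18]],[],[],[],[],[[19,48],[28],[18,49]],[],[[32]],[[34]],[[36]],[[38]],[[34,48],[40]],[[42]],[[41,48],[44],[34,48,49],[40,49]],[[46]]] 204⟩,
⟨187647792513024,[],.kill 13 4 .one [[],[],[],[],[],[],[],[],[],[[18]],[],[],[],[[19,48],[26]],[[28]],[],[[32]],[[34]],[[28,48],[36]],[[38]],[[33,48],[40]],[[37,48],[42],[28,48,49],[36,49]],[[44]],[[46]]] 205⟩,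
⟨187647826067456,[],.kill 12 1 .trace [[],[],[],[],[],[],[],[],[],[[18]],[],[],[[19,48],[24],[18,49]],[[26]],[[28]],[],[[32]],[[34]],[[32,48],[36]],[[38]],[[38,48],[40]],[[41,48],[42],[38,48,49],[40,49]],[[44]],[[46]]] 206⟩,
⟨187649984036864,[(19,10),(30,15)],.kill 11 0 .one [[],[],[],[],[],[],[],[],[],[[18]],[],[[18,48],[22]],[[24]],[[24,48],[26]],[[28]],[],[[28,48],[32]],[[27,48],[34],[24,48,49],[26,49]],[[36]],[[33,48],[38],[28,48,49],[32,49]],[[40],[36,49]],[[42]],[[44]],[[27,28,48],[46],[24,28,48,49],[26,28,49]]] 207⟩,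
⟨187649984299008,[],.split 9 190 208⟩,
⟨2199023648784,[],.map [3,2,0,1,2,3,1,0] [[],[[18]],[],[],[],[[40]],[],[],[],[],[],[],[],[],[],[[4]],[],[],[],[],[],[],[],[[16]]] 171⟩,
⟨142936512004112,[],.kill 23 20 .trace [[],[],[[4]],[],[],[],[],[],[[16]],[[18]],[],[],[],[],[],[],[],[],[],[],[[40]],[],[],[[19,48],[46],[18,49]]] 210⟩,
⟨140877078986768,[],.map [3] [[],[],[[4]],[],[],[],[],[],[[30]],[[22]],[],[],[],[],[],[],[],[],[],[],[[36]],[],[],[[46]]] 211⟩,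
⟨143076102242320,[],.kill 20 10 .one [[],[],[[4]],[],[],[],[],[],[],[],[],[[22]],[],[],[],[[30]],[],[],[[36]],[],[[40],[22,49]],[],[],[[46]]] 212⟩,
⟨143076106436624,[],.split 11 126 213⟩,
⟨70368744177665,[],.map [2,1,2] [[],[],[],[],[],[],[],[],[],[],[[0]],[],[],[],[],[],[],[],[],[],[],[],[],[[46]]] 24⟩,
⟨70370891661313,[],.map [3,2,1,2,0,1,2,1,0] [[],[],[],[],[],[],[],[],[[46]],[],[],[],[],[],[],[],[],[],[],[],[[0]],[],[],[[30]]] 37⟩,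
⟨70368745226241,[],.kill 10 8 (.ratio 24) [[[0]],[],[],[],[],[],[],[],[],[],[[0,48],[20]],[],[],[],[],[[0,1,48]],[],[],[],[],[],[],[],[[46]]] 216⟩,
⟨70368746274817,[],.split 10 215 217⟩,
⟨2199023583232,[],.map [0,1,2,3,1,0] [[[18]],[],[],[],[],[],[],[],[],[],[[40]],[],[],[],[],[],[],[],[],[],[],[],[],[[16]]] 218⟩,
⟨142936511938560,[],.kill 23 20 .trace [[],[],[],[],[],[],[],[],[[16]],[[18]],[],[],[],[],[],[],[],[],[],[],[[40]],[],[],[[19,48],[46],[18,49]]] 219⟩,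
⟨140874931503120,[],.map [2,3] [[],[],[],[],[],[],[],[],[[4]],[[23]],[],[],[],[],[],[],[],[],[],[],[[37]],[],[],[[46]]] 220⟩,
⟨143073954758672,[],.kill 20 10 .one [[],[],[[4]],[],[],[],[],[],[],[],[],[[22]],[],[],[],[],[],[],[[36]],[],[[40],[22,49]],[],[],[[46]]] 221⟩,
⟨143073950826512,[],.map [3] [[],[],[[4]],[],[],[],[],[],[],[],[],[[18]],[],[],[],[],[],[],[[40]],[],[[36]],[],[],[[46]]] 222⟩,
⟨143076106698768,[(30,15)],.kill 11 0 .one [[],[],[[4]],[],[],[],[],[],[],[[18]],[],[[18,48],[22]],[],[],[],[],[],[],[[36]],[],[[40],[36,49]],[],[],[[46]]] 223⟩,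
⟨143076106960912,[],.split 9 214 224⟩,
⟨37555194075136,[],.map [0] [[],[],[[12]],[],[],[],[],[],[],[[10]],[],[[14]],[],[],[],[[34]],[],[],[[36]],[],[[40]],[],[],[[44]]] 225⟩,
⟨178292682430464,[],.kill 23 21 .one [[],[],[],[],[],[[10]],[[12]],[[14]],[],[],[],[],[],[],[],[],[],[[34]],[[36]],[],[[40]],[],[[44]],[[12,48],[46]]] 226⟩,
⟨152282765197320,[],.map [2,1] [[],[],[],[],[],[[3]],[[28]],[[20]],[],[],[],[],[],[],[],[],[],[[38]],[[26]],[],[[41]],[],[[42]],[[46]]] 227⟩,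
⟨187467137286152,[],.kill 22 15 .one [[],[[2]],[],[],[],[],[],[],[],[],[[20]],[],[],[[26]],[[28]],[],[],[],[],[[38]],[[40]],[[42]],[[28,48],[44]],[[46]]] 228⟩,
⟨186959945271296,[],.map [1] [[],[[10]],[],[],[],[],[],[],[],[],[[20]],[],[],[[32]],[[24]],[],[],[],[],[[34]],[[40]],[[44]],[[42]],[[46]]] 229⟩,
⟨187647140038656,[(35,19)],.kill 18 7 .one [[],[],[],[],[],[[10]],[],[],[],[],[[20]],[],[[24]],[],[],[],[[32]],[[34]],[[24,48],[36]],[],[[40]],[[42]],[[37,48],[44],[24,48,49],[36,49]],[[46]]] 230⟩,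
⟨187615043715072,[],.map [0] [[],[],[],[],[],[[18]],[],[],[],[],[[26]],[],[[16]],[],[],[],[[32]],[[30]],[[36]],[[38]],[[40]],[[42]],[[46]],[[44]]] 231⟩,
⟨187649940324352,[(33,17)],.kill 14 6 .one [[],[],[],[],[],[],[],[],[[16]],[[18]],[],[],[],[[26]],[[16,48],[28]],[[30]],[[32]],[],[[36]],[[30,48],[38]],[[40]],[[42]],[[44]],[[42,48],[46]]] 232⟩,
⟨187649982267392,[(19,11)],.kill 12 3 .one [[],[],[],[],[],[],[],[],[[16]],[[18]],[],[],[[16,48],[24]],[[26]],[[28]],[[30]],[[32]],[[30,48],[34]],[[36]],[[38]],[[40]],[[42]],[[44]],[[44,48],[46]]] 233⟩,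
⟨187649984364544,[],.kill 10 0 .one [[],[],[],[],[],[],[],[],[[16]],[[18]],[[16,48],[20]],[[18,48],[22]],[[24]],[[24,48],[26]],[[28]],[[21,48],[30],[16,48,49],[20,49]],[[28,48],[32]],[[27,48],[34],[24,48,49],[26,49]],[[16,18,48],[36]],[[33,48],[38],[28,48,49],[32,49]],[[18,21,48],[40],[16,18,48,49],[36,49]],[[21,24,48],[42],[16,24,48,49],[20,24,49]],[[21,28,48],[44],[16,28,48,49],[20,28,49]],[[16,18,23,48],[27,28,48],[46],[16,18,19,48,49],[24,28,48,49],[16,19,22,49],[26,28,49]]] 234⟩,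
⟨187649984430080,[],.split 8 209 235⟩,
⟨149542173409297,[],.kill 16 13 .one [[[0]],[],[[4]],[],[],[],[],[],[],[],[[20]],[],[],[],[],[],[[4,48],[32]],[[1,48],[0,49]],[],[[1,4,48],[0,4,49]],[],[[21,48],[42],[20,49]],[[4,21,48],[4,20,49]],[[33,48],[46],[4,48,49],[32,49]]] 175⟩,
⟨43989189267457,[],.map [0] [[[0]],[],[[12]],[],[],[],[],[],[],[],[[26]],[],[],[],[],[],[[32]],[],[],[],[],[[42]],[],[[44]]] 237⟩,
⟨184726677622785,[],.kill 23 21 .one [[[0]],[],[],[],[],[],[[12]],[],[],[],[],[],[],[[26]],[],[],[[32]],[],[],[],[],[[42]],[[44]],[[12,48],[46]]] 238⟩,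
⟨184726677626881,[],.split 6 162 239⟩,
⟨184761574236161,[(18,14)],.kill 17 13 .trace [[[0]],[],[],[],[],[],[[12]],[],[],[],[],[],[],[[26]],[],[],[[32]],[[1,48],[34],[0,49]],[],[],[],[[42]],[[44]],[[33,48],[46],[32,49]]] 240⟩,
⟨141838073724932,[],.map [1] [[],[],[],[],[],[[2]],[],[],[],[],[],[],[],[],[],[[30]],[],[],[],[],[[40]],[],[],[[46]]] 105⟩,
⟨143487341166596,[(30,19)],.split 20 166 242⟩,
⟨140875464245504,[],.map [3] [[],[[8]],[],[],[],[],[],[],[],[],[],[],[],[],[],[[16]],[],[],[],[[28]],[[36]],[],[],[[46]]] 243⟩,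
⟨8800387989568,[],.map [3,2,0,1] [[],[],[],[],[],[[32]],[],[],[],[],[],[],[],[],[],[[6]],[],[],[],[],[],[],[],[[42]]] 101⟩,
⟨184722248433728,[(35,22)],.kill 23 13 .trace [[],[],[],[[6]],[],[],[],[],[],[],[],[],[],[],[],[],[[32]],[],[],[],[],[[42]],[],[[33,48],[46],[32,49]]] 245⟩,
⟨176471616339968,[],.map [1,2,0] [[],[],[],[[16]],[],[],[],[],[],[],[],[],[],[],[],[],[[14]],[],[],[],[],[[46]],[[38]],[[44]]] 246⟩,
⟨176609088847872,[(19,12)],.kill 18 11 .one [[],[],[],[],[],[],[],[[14]],[[16]],[],[],[],[],[],[],[],[],[],[[16,48],[36]],[[15,48],[38],[14,49]],[],[],[[15,16,48],[44],[14,16,49]],[[37,48],[46],[16,48,49],[36,49]]] 247⟩,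
⟨149705917006080,[],.map [1] [[],[],[],[],[],[],[],[[8]],[[16]],[],[],[],[[28]],[],[],[],[],[],[[36]],[[34]],[],[],[[42]],[[46]]] 248⟩,
⟨140875468439808,[],.kill 11 6 (.ratio 27) [[],[],[],[],[[8]],[],[],[],[[16]],[],[],[[8,48],[22]],[],[],[[16,48],[28]],[],[],[[8,9,48]],[[8,16,48],[36]],[],[],[[8,9,16,48]],[],[[8,9,28,48],[8,16,23,48],[9,16,22,48],[46]]] 249⟩,
⟨140875472634112,[],.split 11 244 250⟩,
⟨176059844722944,[],.kill 22 19 .one [[],[],[],[],[[8]],[],[],[],[[16]],[],[],[[22]],[],[],[[28]],[],[],[],[[36]],[],[],[],[[16,48],[44]],[[46]]] 251⟩,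
⟨184855937745152,[],.kill 21 17 .one [[],[],[],[],[[8]],[],[],[],[[16]],[],[],[[22]],[],[],[[28]],[],[],[],[[36]],[],[],[[16,48],[42]],[[44]],[[28,48],[46]]] 252⟩,
⟨176094204461312,[],.kill 17 11 .trace [[],[],[],[],[[8]],[],[],[],[[16]],[],[],[[22]],[],[],[[28]],[],[],[[9,48],[34],[8,49]],[[16,48],[36]],[],[],[[9,16,48],[8,16,49]],[[44]],[[9,28,48],[16,23,48],[37,48],[46],[16,48,49],[8,28,49],[16,22,49],[36,49]]] 253⟩,
⟨175965481205777,[],.map [2] [[],[],[],[],[[0]],[],[],[],[[4]],[],[],[[26]],[],[],[[28]],[],[],[[34]],[[32]],[],[],[],[[44]],[[46]]] 254⟩]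

/-- Part 4 of the nodes. -/
def c4 : List Node := [
⟨184761574236177,[(34,21)],.kill 6 3 .one [[[0]],[],[[4]],[],[],[],[[4,48],[12]],[],[],[],[],[],[],[[26]],[[28]],[],[[32]],[[34]],[],[],[],[],[[44]],[[44,48],[46]]] 255⟩,
⟨184761574236193,[],.split 2 241 256⟩,
⟨150255714844672,[],.map [2,1] [[[14]],[],[[16]],[],[],[],[[28]],[],[],[],[],[],[],[[22]],[[24]],[],[[36]],[[38]],[],[],[],[[34]],[[42]],[[46]]] 257⟩,
⟨185440086933504,[],.kill 22 18 .trace [[],[],[],[],[],[],[],[[14]],[[16]],[],[],[[22]],[[24]],[],[[28]],[],[],[[34]],[[36]],[[38]],[],[[42]],[[15,48],[44],[14,49]],[[23,48],[46],[22,49]]] 258⟩,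
⟨187639110189056,[],.kill 20 13 .one [[],[],[],[],[],[],[],[[14]],[[16]],[],[],[[22]],[[24]],[],[[28]],[],[],[[34]],[[36]],[[38]],[[40],[14,49]],[[42]],[[44]],[[46]]] 259⟩,
⟨187647700123648,[],.kill 16 9 .one [[],[],[],[],[],[],[],[[14]],[[16]],[],[],[[22]],[[24]],[],[[28]],[],[[32],[14,49]],[[34]],[[36]],[[38]],[[40]],[[42]],[[44]],[[41,48],[46],[40,49]]] 260⟩,
⟨187649981825024,[(30,13)],.kill 15 4 .trace [[],[],[],[],[],[],[],[[14]],[[16]],[],[],[[22]],[[24]],[],[[28]],[[15,48],[30],[14,49]],[[32]],[[23,48],[34],[22,49]],[[28,48],[36]],[[38]],[[33,48],[40]],[[15,24,48],[37,48],[42],[28,48,49],[14,24,49],[36,49]],[[15,28,48],[44],[14,28,49]],[[23,28,48],[46],[22,28,49]]] 261⟩,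
⟨187649984446464,[(18,9)],.kill 10 1 .one [[],[],[],[],[],[],[],[[14]],[[16]],[],[[20],[14,49]],[[22]],[[24]],[[26],[22,49]],[[28]],[[30]],[[32]],[[34]],[[32,48],[36]],[[38]],[[38,48],[40]],[[41,48],[42],[38,48,49],[40,49]],[[44]],[[46]]] 262⟩,
⟨187649984462848,[],.split 7 236 263⟩,
⟨140737489403920,[],.map [3,2] [[],[],[],[],[],[[20]],[],[],[],[],[],[],[],[],[],[[4]],[],[],[],[],[],[],[],[[46]]] 101⟩,
⟨142936512659472,[],.kill 20 11 .one [[],[],[[4]],[],[],[],[],[],[],[],[[20]],[],[],[],[],[],[],[],[],[],[[21,48],[40]],[],[],[[46]]] 265⟩,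
⟨143073951612944,[],.kill 18 9 .one [[],[],[[4]],[],[],[],[],[],[],[],[[20]],[],[],[],[],[],[],[],[[20,48],[36]],[],[[40]],[],[],[[41,48],[46],[40,49]]] 266⟩,
⟨143076099096592,[],.kill 15 0 .trace [[],[],[[4]],[],[],[],[],[],[],[],[[20]],[],[],[],[],[[21,48],[30],[20,49]],[],[],[[36]],[],[[40],[36,49]],[],[],[[46]]] 267⟩,
⟨143076100145168,[],.split 10 126 268⟩,
⟨142936511873040,[],.map [2] [[],[],[],[],[],[],[],[],[[4]],[[19]],[],[],[],[],[],[],[],[],[],[],[[41]],[],[],[[46]]] 220⟩,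
⟨143076100407312,[(19,10),(30,15)],.kill 18 10 .one [[],[],[[4]],[],[],[],[],[],[],[[18]],[],[],[],[],[],[],[],[],[[18,48],[36]],[],[[40]],[],[],[[46]]] 270⟩,
⟨143076100669456,[],.split 9 269 271⟩,
⟨1073807376,[],.map [2,3,0,1,2,1,0] [[],[],[],[],[],[],[],[],[[4]],[],[],[],[],[],[],[[16]],[],[],[],[],[],[],[],[[30]]] 79⟩,
⟨70369817985040,[],.fin 6 [(1,[0,0,0,1,0,0]),(1,[0,0,1,1,1,0]),(1,[1,0,1,1,1,1]),(1,[1,2,2,3,2,1])]⟩,
⟨140738562162704,[],.split 23 273 274⟩,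
⟨142937585418256,[],.kill 20 9 .one [[],[],[[4]],[],[],[],[],[],[[16]],[],[],[],[],[],[],[[30]],[],[],[],[],[[30,48],[40]],[],[],[[41,48],[46],[30,48,49],[40,49]]] 275⟩,
⟨142938659160080,[],.split 15 123 276⟩,
⟨70369817919492,[],.map [1] [[],[],[],[],[],[[2]],[],[],[],[],[],[],[],[],[],[[30]],[],[],[],[],[],[],[],[[46]]] 100⟩,
⟨70369818050564,[],.map [3,2,0,1,2,3,0,1,0] [[],[],[[30]],[],[],[],[],[],[[46]],[],[],[],[],[],[],[],[],[],[],[],[[2]],[],[],[[16]]] 122⟩,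
⟨70369817920516,[],.kill 5 2 (.ratio 8) [[],[[2]],[],[],[],[[2,48],[10]],[],[],[[2,3,48]],[],[],[],[],[],[],[[30]],[],[],[],[],[],[],[],[[46]]] 279⟩,
⟨70369817921540,[],.split 5 278 280⟩,
⟨2199023583248,[],.map [3,2,0,1,2,3,1,0] [[],[[18]],[],[],[],[[40]],[],[],[],[],[],[],[],[],[],[[4]],[],[],[],[],[],[],[],[[16]]] 281⟩,
⟨142938659422224,[(30,15)],.kill 23 20 .trace [[],[],[[4]],[],[],[],[],[],[[16]],[[18]],[],[],[],[],[],[],[],[],[],[],[[40]],[],[],[[19,48],[46],[18,49]]] 282⟩,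
⟨142938659684368,[],.split 9 277 283⟩,
⟨143076107026448,[(19,11)],.kill 18 11 .one [[],[],[[4]],[],[],[],[],[],[[16]],[[18]],[],[],[],[],[],[[30]],[],[],[[16,48],[36]],[],[[40]],[],[],[[37,48],[46],[16,48,49],[36,49]]] 284⟩,
⟨143076100734992,[],.kill 10 0 .one [[],[],[[4]],[],[],[],[],[],[[16]],[[18]],[[16,48],[20]],[[18,48]],[],[],[],[[21,48],[30],[16,48,49],[20,49]],[],[],[[16,18,48],[36]],[],[[18,21,48],[40],[16,18,48,49],[36,49]],[],[],[[46],[16,18,19,48,49]]] 285⟩,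
⟨143076100800528,[],.split 8 272 286⟩,
⟨11691437851200,[],.map [0,3,1] [[],[],[[6]],[],[],[],[],[],[[38]],[[8]],[[33]],[],[],[],[],[[28]],[],[],[[40]],[],[[36]],[],[],[[42]]] 287⟩,
⟨187613298295360,[(35,22)],.kill 23 22 .one [[],[],[],[[6]],[[8]],[],[],[],[],[],[],[],[],[],[[28]],[],[[32]],[],[[36]],[[38]],[[40]],[[42]],[],[[6,48],[46]]] 288⟩,
⟨187647658033728,[],.kill 17 15 .one [[],[],[],[[6]],[[8]],[],[],[],[],[],[],[],[],[],[[28]],[],[[32]],[[6,48],[34]],[[36]],[[38]],[[40]],[[42]],[[28,48],[44]],[[6,28,48],[46]]] 289⟩,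
⟨187638699036672,[],.map [1] [[],[],[],[[12]],[[14]],[],[],[],[],[],[],[],[],[],[[24]],[],[[26]],[[38]],[[36]],[[34]],[[40]],[[44]],[[42]],[[46]]] 290⟩,
⟨187647288971264,[],.kill 16 10 .one [[],[],[],[],[],[],[[12]],[[14]],[],[],[],[],[[24]],[[26]],[],[],[[12,48],[32]],[[34]],[[36]],[[38]],[[40]],[[27,48],[42],[26,49]],[[33,48],[44],[12,48,49],[32,49]],[[12,27,48],[46],[12,26,49]]] 291⟩,
⟨187649973325824,[(29,15)],.kill 14 8 .one [[],[],[],[],[],[],[[12]],[[14]],[],[],[],[],[[24]],[[26]],[[12,48],[28]],[],[[32]],[[34]],[[36]],[[38]],[[40]],[[34,48],[42]],[[38,48],[44]],[[46]]] 292⟩,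
⟨187649983811584,[(18,10)],.kill 11 4 .one [[],[],[],[],[],[],[[12]],[[14]],[],[],[],[[12,48],[22]],[[24]],[[26]],[[28]],[[15,48],[30],[14,49]],[[32]],[[23,48],[34],[12,48,49],[22,49]],[[28,48],[36]],[[12,15,48],[38],[12,14,49]],[[33,48],[40]],[[15,24,48],[37,48],[42],[28,48,49],[14,24,49],[36,49]],[[15,28,48],[44],[14,28,49]],[[12,15,24,48],[23,28,48],[46],[12,28,48,49],[12,14,24,49],[22,28,49]]] 293⟩,
⟨187649984466944,[(17,8)],.kill 9 1 .one [[],[],[],[],[],[],[[12]],[[14]],[],[[12,48],[18]],[[20],[14,49]],[[22]],[[19,48],[24],[12,48,49],[18,49]],[[26],[22,49]],[[28]],[[30]],[[32],[12,14,49]],[[34]],[[32,48],[36],[12,14,48,49],[14,18,49]],[[38]],[[38,48],[40]],[[41,48],[42],[38,48,49],[40,49]],[[12,15,20,48],[44],[12,14,15,48,49],[12,14,21,49]],[[12,15,26,48],[15,19,22,48],[46],[12,14,27,49],[14,18,23,49]]] 294⟩,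
⟨187649984471040,[],.split 6 264 295⟩,
⟨17592320262145,[],.map [0] [[[0]],[],[],[],[],[],[],[],[],[],[[26]],[],[],[],[],[],[],[],[],[],[],[],[],[[44]]] 218⟩,
⟨158329808617473,[],.kill 23 3 .one [[[0]],[],[],[],[],[],[],[],[],[],[],[],[],[[26]],[],[],[],[],[],[],[],[],[[44]],[[44,48],[46]]] 297⟩,
⟨142936780046340,[],.map [1,2,3] [[[2]],[],[],[],[],[],[],[],[],[],[],[],[],[[40]],[],[],[],[],[],[],[],[],[[28]],[[46]]] 298⟩,
⟨178157659357188,[(34,15),(35,17)],.kill 22 15 .one [[],[[2]],[],[],[],[],[],[],[],[],[],[],[],[],[[28]],[],[],[],[],[],[[40]],[],[[28,48],[44]],[[46]]] 299⟩,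
⟨178707683606532,[(30,19)],.split 14 200 300⟩,
⟨178157927792644,[],.split 14 200 300⟩,
⟨178707717160964,[(30,19)],.kill 12 9 .trace [[],[[2]],[],[],[],[],[],[],[],[],[],[],[[3,48],[24],[2,49]],[],[[28]],[[30]],[],[[34]],[],[],[[30,48],[40]],[],[[44]],[[41,48],[46],[30,48,49],[40,49]]] 302⟩,
⟨178707683868676,[],.kill 9 6 (.ratio 15) [[],[[2]],[],[],[],[],[],[],[],[[2,48],[18]],[],[],[[2,3,48]],[],[[28]],[[30]],[],[[34]],[],[[30,48],[38]],[[40]],[],[[44]],[[46]]] 303⟩,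
⟨178707684130820,[],.split 9 301 304⟩,
⟨184726677618753,[],.kill 13 10 .one [[[0]],[],[],[[6]],[],[],[],[],[],[],[],[],[],[[6,48],[26]],[],[[1,48],[0,49]],[[32]],[[1,6,48],[0,6,49]],[],[],[],[[27,48],[42],[6,48,49],[26,49]],[[33,48],[44],[32,49]],[[46]]] 179⟩,
⟨178121421094980,[],.map [2,3] [[[2]],[],[],[[6]],[],[],[],[],[],[],[],[],[],[[18]],[],[],[[40]],[],[],[],[],[[28]],[[44]],[[46]]] 306⟩,
⟨178707684130884,[(27,15),(30,19)],.kill 17 15 .one [[],[[2]],[],[[6]],[],[],[],[],[],[[18]],[],[],[],[],[[28]],[],[],[[6,48],[34]],[],[],[[18,48],[40]],[],[[28,48],[44]],[[6,28,48],[18,19,48],[46]]] 307⟩,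
⟨178707684130948,[],.split 3 305 308⟩,
⟨187503777153156,[],.kill 21 20 .trace [[],[[2]],[],[[6]],[],[],[],[],[],[[18]],[],[],[],[],[[28]],[[30]],[],[[34]],[],[[38]],[[40]],[[3,48],[42],[2,49]],[[44]],[[19,48],[46],[18,49]]] 309⟩,
⟨187641216106628,[],.kill 18 16 .one [[],[[2]],[],[[6]],[],[],[],[],[],[[18]],[],[],[],[],[[28]],[[30]],[],[[34]],[[2,48],[36]],[[38]],[[40]],[[42]],[[44]],[[46]]] 310⟩,
⟨187640712799232,[],.map [1] [[],[[10]],[],[[12]],[],[],[],[],[],[[18]],[],[],[],[],[[24]],[[30]],[],[[38]],[[36]],[[34]],[[40]],[[44]],[[42]],[[46]]] 311⟩,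
⟨187649302733824,[],.kill 16 11 .one [[],[],[],[],[],[[10]],[[12]],[],[],[[18]],[],[],[[24]],[],[],[[30]],[[11,48],[32]],[[34]],[[36]],[[38]],[[40]],[[42]],[[44]],[[37,48],[46],[36,49]]] 312⟩,
⟨187649982211072,[(18,11),(19,13)],.kill 14 9 .trace [[],[],[],[],[],[[10]],[[12]],[],[],[[18]],[],[],[[24]],[],[[11,48],[28],[10,49]],[[30]],[[32]],[[34]],[[36]],[[38]],[[30,48],[40]],[[42]],[[44]],[[41,48],[46],[30,48,49],[40,49]]] 313⟩,
⟨187649984308224,[],.kill 10 4 .one [[],[],[],[],[],[[10]],[[12]],[],[],[[18]],[[11,48],[20]],[[12,48],[22]],[[24]],[[19,48],[26]],[[28]],[[30]],[[11,12,48],[32]],[[23,48],[34],[12,48,49],[22,49]],[[11,18,48],[28,48],[36]],[[38]],[[12,21,48],[33,48],[40]],[[19,21,48],[37,48],[42],[28,48,49],[18,20,49],[36,49]],[[11,12,21,48],[44],[10,11,12,48,49],[10,12,20,49]],[[11,12,27,48],[11,18,23,48],[23,28,48],[46],[12,28,48,49],[10,12,26,49],[10,19,22,49],[22,28,49]]]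 314⟩,
⟨187649984439296,[],.kill 8 1 .trace [[],[],[],[],[],[[10]],[[12]],[],[[11,48],[16],[10,49]],[[12,48],[18]],[[20]],[[22]],[[19,48],[24],[12,48,49],[18,49]],[[26],[22,49]],[[11,12,48],[28],[10,12,49]],[[30]],[[32]],[[34]],[[32,48],[36]],[[38]],[[38,48],[40]],[[41,48],[42],[38,48,49],[40,49]],[[44]],[[46]]] 315⟩,
⟨187649984472064,[],.kill 7 0 .one [[],[],[],[],[],[[10]],[[12]],[[10,48],[14]],[[16]],[[18]],[[16,48],[20]],[[18,48],[22]],[[24]],[[24,48],[26]],[[28]],[[21,48],[30],[16,48,49],[20,49]],[[28,48],[32]],[[27,48],[34],[24,48,49],[26,49]],[[16,18,48],[36]],[[33,48],[38],[28,48,49],[32,49]],[[18,21,48],[40],[16,18,48,49],[36,49]],[[21,24,48],[42],[16,24,48,49],[20,24,49]],[[21,28,48],[44],[16,28,48,49],[20,28,49]],[[16,18,23,48],[27,28,48],[46],[16,18,19,48,49],[24,28,48,49],[16,19,22,49],[26,28,49]]] 316⟩,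
⟨187649984473088,[],.split 5 296 317⟩,
⟨184727214497793,[(18,14)],.split 6 162 239⟩]

/-- Part 5 of the nodes. -/
def c5 : List Node := [
⟨175931121467409,[],.map [2] [[],[],[],[],[[0]],[],[],[],[[4]],[],[],[[26]],[],[],[[28]],[],[],[],[[32]],[],[],[],[[44]],[[46]]] 252⟩,
⟨184727214497809,[(34,21)],.kill 6 3 .one [[[0]],[],[[4]],[],[],[],[[4,48],[12]],[],[],[],[],[],[],[[26]],[[28]],[],[[32]],[],[],[],[],[],[[44]],[[44,48],[46]]] 320⟩,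
⟨184727214497825,[],.split 2 319 321⟩,
⟨176609634156800,[],.map [2] [[[8]],[],[[16]],[],[],[],[[24]],[],[],[],[],[],[],[[22]],[[28]],[],[[36]],[],[],[],[],[[38]],[[44]],[[46]]] 322⟩,
⟨185405727179008,[],.kill 21 18 .trace [[],[],[],[],[[8]],[],[],[],[[16]],[],[],[[22]],[[24]],[],[[28]],[],[],[],[[36]],[[38]],[],[[9,48],[42],[8,49]],[[44]],[[23,48],[46],[22,49]]] 323⟩,
⟨185407874662656,[],.kill 15 7 .trace [[],[],[],[],[[8]],[],[],[],[[16]],[],[],[[22]],[[24]],[],[[28]],[[9,48],[30],[8,49]],[],[],[[24,48],[36]],[[23,48],[38],[22,49]],[],[[9,24,48],[42],[8,24,49]],[[9,28,48],[37,48],[44],[24,48,49],[8,28,49],[36,49]],[[23,24,48],[46],[22,24,49]]] 324⟩,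
⟨176609634173184,[],.kill 7 2 (.ratio 24) [[],[],[],[],[[8]],[],[],[[8,48],[14]],[[16]],[],[],[[22]],[[24]],[],[[24,48],[28]],[[8,9,48]],[],[],[[36]],[[38]],[],[[8,9,24,48]],[[8,9,24,48,48],[8,9,28,48],[44]],[[46]]] 325⟩,
⟨176609634189568,[],.split 7 323 326⟩,
⟨185405727211776,[],.kill 21 18 .trace [[],[],[],[],[[8]],[],[],[[14]],[[16]],[],[],[[22]],[[24]],[],[[28]],[],[],[],[[36]],[[38]],[],[[9,48],[42],[8,49]],[[15,48],[44],[14,49]],[[23,48],[46],[22,49]]] 327⟩,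
⟨187604750467328,[],.kill 20 16 .one [[],[],[],[],[[8]],[],[],[[14]],[[16]],[],[],[[22]],[[24]],[],[[28]],[],[],[],[[36]],[[38]],[[40],[8,49]],[[42]],[[44]],[[46]]] 328⟩,
⟨187639110205696,[],.kill 17 11 .trace [[],[],[],[],[[8]],[],[],[[14]],[[16]],[],[],[[22]],[[24]],[],[[28]],[],[],[[9,48],[34],[8,49]],[[16,48],[36]],[[15,48],[38],[14,49]],[[40]],[[9,16,48],[42],[8,16,49]],[[15,16,48],[44],[14,16,49]],[[9,28,48],[15,24,48],[16,23,48],[37,48],[46],[16,48,49],[8,28,49],[14,24,49],[16,22,49],[36,49]]] 329⟩,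
⟨187649847623936,[(30,16)],.kill 15 7 .trace [[],[],[],[],[[8]],[],[],[[14]],[[16]],[],[],[[22]],[[24]],[],[[28]],[[9,48],[30],[8,49]],[],[[34]],[[24,48],[36]],[[23,48],[38],[22,49]],[[40]],[[9,24,48],[42],[8,24,49]],[[9,28,48],[37,48],[44],[24,48,49],[8,28,49],[36,49]],[[23,24,48],[46],[22,24,49]]] 330⟩,
⟨187649981841664,[],.kill 13 9 .one [[],[],[],[],[[8]],[],[],[[14]],[[16]],[],[],[[22]],[[24]],[[26],[8,49]],[[28]],[[30]],[[32],[14,49]],[[34]],[[36]],[[38]],[[9,14,48],[30,48],[40]],[[42]],[[44]],[[15,26,48],[41,48],[46],[30,48,49],[14,27,49],[40,49]]] 331⟩,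
⟨187649984473344,[(9,5),(13,6),(16,9)],.kill 10 5 .one [[],[],[],[],[[8]],[],[],[[14]],[[16]],[],[[20],[8,49]],[[22]],[[24]],[[26]],[[28]],[[30]],[[32],[22,49]],[[34]],[[26,48],[36]],[[38]],[[34,48],[40]],[[42]],[[41,48],[44],[34,48,49],[40,49]],[[23,26,48],[46],[22,27,49]]] 332⟩,
⟨187649984473600,[],.split 4 318 333⟩,
⟨187647792251456,[],.kill 13 10 .one [[],[],[],[[6]],[[8]],[],[],[],[],[],[],[],[],[[6,48],[26]],[[28]],[],[[32]],[[34]],[[36]],[[38]],[[40]],[[27,48],[42],[6,48,49],[26,49]],[[33,48],[44],[32,49]],[[46]]] 290⟩,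
⟨187649973289536,[(27,15)],.kill 12 8 .one [[],[],[],[[6]],[[8]],[],[],[],[],[],[],[],[[6,48],[24]],[[26]],[[28]],[],[[32]],[[34]],[[36]],[[38]],[[40]],[[34,48],[42]],[[38,48],[44]],[[46]]] 335⟩,
⟨187649983775296,[(16,10)],.kill 11 7 .one [[],[],[],[[6]],[[8]],[],[],[],[],[],[],[[6,48],[22]],[[24]],[[26]],[[28]],[[9,48],[30],[8,49]],[[32]],[[6,9,48],[34],[6,8,49]],[[24,48],[36]],[[23,48],[38],[6,48,49],[22,49]],[[27,48],[40]],[[9,24,48],[42],[8,24,49]],[[9,28,48],[37,48],[44],[24,48,49],[8,28,49],[36,49]],[[6,9,28,48],[23,24,48],[46],[6,24,48,49],[6,8,28,49],[22,24,49]]] 336⟩,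
⟨187649984332352,[(13,7)],.kill 9 5 .one [[],[],[],[[6]],[[8]],[],[],[],[],[[6,48],[18]],[[20],[8,49]],[[22]],[[24]],[[26],[6,8,49]],[[19,48],[28],[6,48,49],[18,49]],[[30]],[[32],[22,49]],[[34]],[[26,48],[36],[6,8,48,49],[8,18,49]],[[38]],[[34,48],[40]],[[6,9,20,48],[42],[6,8,9,48,49],[6,8,21,49]],[[41,48],[44],[34,48,49],[40,49]],[[9,19,22,48],[23,26,48],[46],[6,8,23,48,49],[6,9,22,48,49],[8,18,23,49],[22,27,49]]] 337⟩,
⟨187649984473664,[(12,5),(15,8)],.kill 6 2 .one [[],[],[],[[6]],[[8]],[],[[6,48],[12]],[[8,48],[14]],[],[[18]],[[20]],[[6,8,48],[22]],[[24]],[[26]],[[24,48],[28]],[[8,9,48],[30]],[[26,48],[32]],[[6,8,9,48],[34]],[[36]],[[6,8,15,48],[6,9,14,48],[8,9,12,48],[34,48],[38]],[[6,8,21,48],[8,9,18,48],[40]],[[8,9,24,48],[42]],[[8,9,24,48,48],[8,9,28,48],[42,48],[44]],[[6,8,9,24,48,48],[6,8,9,28,48],[6,8,15,24,48],[6,9,14,24,48],[8,9,12,24,48],[8,9,18,19,48],[26,27,48],[46]]]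 338⟩,
⟨187649984473728,[],.split 3 334 339⟩,
⟨143076107485200,[(30,11)],.kill 15 0 .trace [[],[],[[4]],[],[],[],[],[],[],[],[[20]],[],[],[],[],[[21,48],[30],[20,49]],[],[],[[36]],[],[[40],[36,49]],[],[],[[46]]] 267⟩,
⟨143076108533776,[],.split 10 214 341⟩,
⟨143076108795920,[(19,10),(30,15)],.kill 11 0 .one [[],[],[[4]],[],[],[],[],[],[],[[18]],[],[[18,48],[22]],[],[],[],[],[],[],[[36]],[],[[40],[36,49]],[],[],[[46]]] 223⟩,
⟨143076109058064,[],.split 9 342 343⟩,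
⟨143076109123600,[],.kill 10 0 .one [[],[],[[4]],[],[],[],[],[],[[16]],[[18]],[[16,48],[20]],[[18,48],[22]],[],[],[],[[21,48],[30],[16,48,49],[20,49]],[],[],[[16,18,48],[36]],[],[[18,21,48],[40],[16,18,48,49],[36,49]],[],[],[[16,18,23,48],[46],[16,18,19,48,49],[16,19,22,49]]] 285⟩,
⟨143076109189136,[],.split 8 344 345⟩,
⟨187056574300176,[(34,21)],.kill 22 21 .one [[],[],[[4]],[],[],[],[],[],[[16]],[[18]],[[20]],[[22]],[],[],[],[[30]],[],[],[[36]],[],[[40]],[],[[4,48],[44]],[[46]]] 346⟩,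
⟨187606330114064,[],.kill 19 17 .one [[],[],[[4]],[],[],[],[],[],[[16]],[[18]],[[20]],[[22]],[],[],[],[[30]],[],[],[[36]],[[4,48],[38]],[[40]],[[16,48],[42]],[[4,16,48],[44]],[[46]]] 347⟩,
⟨187614920048656,[],.kill 16 13 .one [[],[],[[4]],[],[],[],[],[],[[16]],[[18]],[[20]],[[22]],[],[],[],[[30]],[[4,48],[32]],[],[[36]],[[38]],[[40]],[[21,48],[42],[20,49]],[[4,21,48],[44],[4,20,49]],[[33,48],[46],[4,48,49],[32,49]]] 348⟩,
⟨187649950875664,[(18,13),(29,17)],.kill 14 12 .one [[],[],[[4]],[],[],[],[],[],[[16]],[[18]],[[20]],[[22]],[],[],[[4,48],[28]],[[30]],[[32]],[],[[36]],[[38]],[[40]],[[30,48],[42]],[[44]],[[38,48],[46]]] 349⟩,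
⟨187649984462864,[(17,12)],.kill 7 4 .one [[],[],[[4]],[],[],[],[],[[4,48],[14]],[[16]],[[18]],[[20]],[[22]],[],[[19,48],[26]],[[28]],[[15,48],[30],[4,48,49],[14,49]],[[32]],[[23,48],[34],[22,49]],[[28,48],[36]],[[38]],[[15,18,48],[33,48],[40],[4,18,48,49],[14,18,49]],[[19,21,48],[37,48],[42],[28,48,49],[18,20,49],[36,49]],[[15,28,48],[44],[4,28,48,49],[14,28,49]],[[15,18,19,48],[23,28,48],[46],[4,18,19,48,49],[14,18,19,49],[22,28,49]]] 350⟩,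
⟨187649984471056,[],.kill 6 3 .one [[],[],[[4]],[],[],[],[[4,48],[12]],[[14]],[[16]],[[18]],[[20]],[[14,48],[22]],[[16,48],[24]],[[20,48],[26]],[[28]],[[30]],[[32]],[[30,48],[34]],[[14,16,48],[36]],[[14,15,48],[38]],[[14,21,48],[40]],[[20,21,48],[42]],[[14,15,16,48],[44]],[[14,15,24,48],[14,16,23,48],[15,16,22,48],[44,48],[46]]] 351⟩,
⟨187649984473744,[(5,4),(11,3)],.kill 5 1 .one [[],[],[[4]],[],[],[[4,48],[10]],[[12]],[[14]],[[11,48],[16],[4,48,49],[10,49]],[[12,48],[18]],[[20],[14,49]],[[22]],[[19,48],[24],[12,48,49],[18,49]],[[26],[22,49]],[[11,12,48],[28],[4,12,48,49],[10,12,49]],[[30]],[[32],[12,14,49]],[[34]],[[32,48],[36],[12,14,48,49],[14,18,49]],[[38]],[[38,48],[40]],[[41,48],[42],[38,48,49],[40,49]],[[12,15,20,48],[44],[12,14,15,48,49],[12,14,21,49]],[[12,15,26,48],[15,19,22,48],[46],[12,14,27,49],[14,18,23,49]]] 352⟩,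
⟨187649984473760,[],.split 2 340 353⟩,
⟨178707683608580,[],.map [0] [[],[[2]],[],[],[],[],[],[],[],[[10]],[],[],[],[],[[28]],[[34]],[],[[30]],[],[[38]],[[40]],[],[[46]],[[44]]] 305⟩,
⟨178707717163012,[],.kill 12 9 .trace [[],[[2]],[],[],[],[[10]],[],[],[],[],[],[],[[3,48],[24],[2,49]],[],[[11,48],[28],[10,49]],[[30]],[],[[34]],[],[[38]],[[30,48],[40]],[],[[44]],[[41,48],[46],[30,48,49],[40,49]]] 355⟩,
⟨178707684261892,[],.map [0] [[],[[2]],[],[],[],[[18]],[],[],[],[],[],[],[[16]],[],[[28]],[[34]],[],[[30]],[],[[38]],[[40]],[],[[46]],[[44]]] 356⟩,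
⟨178707684131844,[],.kill 5 2 (.ratio 8) [[],[[2]],[],[],[],[[2,48],[10]],[],[],[[2,3,48]],[[18]],[],[],[],[],[[28]],[[30]],[],[[34]],[],[[34,48],[38]],[[40]],[],[[44]],[[46]]] 357⟩,
⟨178707684141060,[(12,6)],.split 5 305 358⟩,
⟨149542710280209,[(18,14)],.kill 16 13 .one [[[0]],[],[[4]],[],[],[],[],[],[],[],[[20]],[],[],[],[],[],[[4,48],[32]],[[1,48],[0,49]],[],[[1,4,48],[0,4,49]],[],[[21,48],[42],[20,49]],[[4,21,48],[4,20,49]],[[33,48],[46],[4,48,49],[32,49]]] 175⟩,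
⟨43989726138369,[],.map [0] [[[0]],[],[[12]],[],[],[],[],[],[],[],[[26]],[],[],[],[[28]],[],[[32]],[],[],[],[],[[42]],[],[[44]]] 360⟩,
⟨176609080377600,[],.map [2] [[[8]],[],[],[],[],[],[[24]],[],[],[],[],[],[],[[22]],[],[],[[36]],[],[],[],[],[[38]],[[44]],[[46]]] 239⟩,
⟨185405173399808,[],.kill 21 15 .one [[],[],[],[],[[8]],[],[],[],[],[],[],[[22]],[[24]],[],[],[],[],[],[[36]],[[38]],[],[[24,48],[42]],[[44]],[[46]]] 362⟩,
⟨185405148332288,[],.map [0] [[],[],[],[],[[8]],[],[],[],[],[],[],[[14]],[[16]],[],[],[],[],[],[[36]],[[38]],[],[[42]],[[46]],[[44]]] 363⟩,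
⟨185440044941568,[(19,14)],.kill 17 11 .trace [[],[],[],[],[[8]],[],[],[[14]],[[16]],[],[],[],[],[],[],[],[],[[9,48],[34],[8,49]],[[16,48],[36]],[[15,48],[38],[14,49]],[],[[9,16,48],[42],[8,16,49]],[[15,16,48],[44],[14,16,49]],[[37,48],[46],[16,48,49],[36,49]]] 364⟩,
⟨185279117791233,[],.map [2,0] [[],[],[],[],[[0]],[],[],[[26]],[[12]],[],[],[],[],[],[[28]],[],[],[[30]],[[32]],[[42]],[],[[38]],[[46]],[[44]]] 365⟩,
⟨43989727186945,[],.kill 10 8 (.ratio 24) [[[0]],[],[],[],[],[],[[12]],[],[],[],[[0,48],[20]],[],[],[[26]],[[12,48],[28]],[[0,1,48]],[[0,12,48],[32]],[],[],[[0,1,12,48]],[],[[42]],[[0,1,28,48],[0,12,21,48],[1,12,20,48],[44]],[[0,12,27,48],[1,12,26,48]]] 366⟩,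
⟨43989728235521,[],.split 10 361 367⟩,
⟨184727216590849,[],.kill 23 21 .one [[[0]],[],[],[],[],[],[[12]],[],[],[],[[20]],[],[],[[26]],[[28]],[],[[32]],[],[],[],[],[[42]],[[44]],[[12,48],[46]]] 368⟩,
⟨185276972404737,[],.kill 19 15 .one [[[0]],[],[],[],[],[],[[12]],[],[],[],[[20]],[],[],[[26]],[[28]],[],[[32]],[],[],[[12,48],[38]],[],[[42]],[[28,48],[44]],[[46]]] 369⟩,
⟨185270529953793,[],.kill 15 10 .trace [[[0]],[],[],[],[],[],[[12]],[],[],[],[[20]],[],[],[[26]],[[28]],[[1,48],[30],[0,49]],[[12,48]],[],[],[[1,12,48],[38],[0,12,49]],[],[[27,48],[42],[26,49]],[[1,28,48],[12,21,48],[44],[12,48,49],[0,28,49],[12,20,49]],[[12,27,48],[46],[12,26,49]]] 370⟩,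
⟨184763086274625,[],.map [1] [[[0]],[],[],[],[],[],[[6]],[],[],[],[[20]],[],[],[[32]],[[24]],[[30]],[],[],[],[[34]],[],[[44]],[[42]],[[46]]] 371⟩,
⟨184727250141249,[(18,14)],.kill 13 10 .one [[[0]],[],[],[[6]],[],[],[],[],[],[],[[20]],[],[[24]],[[6,48],[26]],[],[[1,48],[0,49]],[[32]],[[1,6,48],[0,6,49]],[],[],[],[[1,24,48],[6,21,48],[27,48],[42],[6,48,49],[0,24,49],[6,20,49],[26,49]],[[33,48],[44],[32,49]],[[46]]] 372⟩,
⟨178671176919108,[],.map [2,3] [[[2]],[],[],[[6]],[],[],[],[],[],[],[[10]],[],[[12]],[[18]],[[38]],[],[[40]],[],[],[],[],[[28]],[[44]],[[46]]] 373⟩,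
⟨178707684141124,[(27,15)],.kill 17 15 .one [[],[[2]],[],[[6]],[],[[10]],[[12]],[],[],[[18]],[],[],[],[],[[28]],[],[],[[6,48],[34]],[],[[12,48],[38]],[[6,10,48],[18,48],[40]],[],[[6,10,11,48],[28,48],[44]],[[6,10,19,48],[6,11,18,48],[6,28,48],[18,19,48],[46]]] 374⟩,
⟨178707684141188,[],.split 3 359 375⟩,
⟨187503777163396,[],.kill 21 20 .trace [[],[[2]],[],[[6]],[],[[10]],[[12]],[],[],[[18]],[],[],[],[],[[28]],[[30]],[],[[34]],[],[[38]],[[40]],[[3,48],[42],[2,49]],[[11,48],[44],[10,49]],[[3,12,48],[19,48],[46],[2,12,49],[18,49]]] 376⟩,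
⟨187649806051460,[(19,16)],.kill 18 16 .one [[],[[2]],[],[[6]],[],[[10]],[[12]],[],[],[[18]],[],[],[],[],[[28]],[[30]],[],[[34]],[[2,48],[36]],[[38]],[[40]],[[42]],[[44]],[[46]]] 377⟩,
⟨187649940269188,[],.kill 13 11 .one [[],[[2]],[],[[6]],[],[[10]],[[12]],[],[],[[18]],[],[],[],[[3,48],[26]],[[28]],[[30]],[[11,48],[32]],[[34]],[[3,10,48],[36]],[[38]],[[40]],[[42]],[[44]],[[11,27,48],[37,48],[46],[10,26,49],[36,49]]] 378⟩,
⟨187649982212228,[(16,11)],.kill 12 9 .trace [[],[[2]],[],[[6]],[],[[10]],[[12]],[],[],[[18]],[],[],[[3,48],[24],[2,49]],[[26]],[[11,48],[28],[10,49]],[[30]],[[32]],[[34]],[[36]],[[38]],[[30,48],[40]],[[42]],[[44]],[[41,48],[46],[30,48,49],[40,49]]] 379⟩,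
⟨187649984309380,[],.kill 10 7 .one [[],[[2]],[],[[6]],[],[[10]],[[12]],[],[],[[18]],[[3,48],[20]],[[6,48],[22]],[[24]],[[3,6,48],[26]],[[28]],[[30]],[[3,12,48],[6,11,48],[19,48],[32]],[[34]],[[3,6,10,48],[3,18,48],[24,48],[36]],[[23,48],[38],[6,48,49],[22,49]],[[6,21,48],[27,48],[40]],[[3,6,21,48],[42],[2,3,6,48,49],[2,6,20,49]],[[3,12,21,48],[6,11,21,48],[19,21,48],[37,48],[44],[2,3,12,48,49],[24,48,49],[2,12,20,49],[6,10,20,49],[18,20,49],[36,49]],[[3,6,10,23,48],[3,12,27,48],[3,18,23,48],[6,11,27,48],[19,27,48],[23,24,48],[46],[2,3,6,12,48,49],[2,6,6,11,48,49],[2,6,19,48,49],[3,6,6,10,48,49],[3,6,18,48,49],[6,24,48,49],[2,6,11,22,49],[2,12,26,49],[2,19,22,49],[6,10,26,49],[18,26,49],[22,24,49]]] 380⟩,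
⟨187649984473220,[(9,7)],.kill 8 5 .trace [[],[[2]],[],[[6]],[],[[10]],[[12]],[],[[3,48],[16],[2,49]],[[6,48],[18]],[[20]],[[22]],[[3,6,48],[24],[2,6,49]],[[26]],[[3,12,48],[6,11,48],[19,48],[28],[6,48,49],[2,12,49],[6,10,49],[18,49]],[[30]],[[32],[22,49]],[[34]],[[26,48],[36]],[[38]],[[34,48],[40]],[[42]],[[41,48],[44],[34,48,49],[40,49]],[[23,26,48],[46],[22,27,49]]] 381⟩,
⟨187649984473764,[(4,2)],.kill 4 0 .one [[],[[2]],[],[[6]],[[2,48],[8]],[[10]],[[12]],[[10,48],[14]],[[16]],[[18]],[[16,48],[20]],[[18,48],[22]],[[24]],[[24,48],[26]],[[28]],[[21,48],[30],[16,48,49],[20,49]],[[28,48],[32]],[[27,48],[34],[24,48,49],[26,49]],[[16,18,48],[36]],[[33,48],[38],[28,48,49],[32,49]],[[18,21,48],[40],[16,18,48,49],[36,49]],[[21,24,48],[42],[16,24,48,49],[20,24,49]],[[21,28,48],[44],[16,28,48,49],[20,28,49]],[[16,18,23,48],[27,28,48],[46],[16,18,19,48,49],[24,28,48,49],[16,19,22,49],[26,28,49]]]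 382⟩]

/-- Part 6 of the nodes. -/
def c6 : List Node := [
⟨187649984473768,[],.split 1 354 383⟩,
⟨184728825102337,[],.map [1,0] [[[0]],[],[],[],[],[],[],[],[],[],[[26]],[],[],[[32]],[],[],[],[],[],[[30]],[],[[46]],[[42]],[[44]]] 164⟩,
⟨184726678667265,[],.kill 10 8 (.ratio 24) [[[0]],[],[],[],[],[],[],[],[],[],[[0,48],[20]],[],[],[[26]],[],[[0,1,48]],[[32]],[],[],[],[],[[42]],[[44]],[[46]]] 385⟩,
⟨184727216586753,[(18,14)],.split 10 162 386⟩,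
⟨184727216594945,[],.split 6 387 369⟩,
⟨185276972408833,[],.kill 19 16 .trace [[[0]],[],[],[],[],[],[[12]],[],[],[],[[20]],[],[],[[26]],[[28]],[],[[32]],[],[],[[1,48],[38],[0,49]],[],[[42]],[[21,48],[44],[20,49]],[[27,48],[46],[26,49]]] 388⟩,
⟨184729397633025,[(16,12)],.kill 15 10 .trace [[[0]],[],[],[],[],[],[[12]],[],[],[],[[20]],[],[],[[26]],[[28]],[[1,48],[30],[0,49]],[[12,48],[32]],[],[],[[1,12,48],[0,12,49]],[],[[27,48],[42],[26,49]],[[1,28,48],[12,21,48],[33,48],[44],[12,48,49],[0,28,49],[12,20,49],[32,49]],[[12,27,48],[46],[12,26,49]]] 389⟩,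
⟨184729397624897,[(18,14)],.kill 13 10 .one [[[0]],[],[],[[6]],[],[],[],[],[],[],[[20]],[],[[24]],[[6,48],[26]],[],[[1,48],[30],[0,49]],[[32]],[[1,6,48],[0,6,49]],[],[],[],[[1,24,48],[6,21,48],[27,48],[42],[6,48,49],[0,24,49],[6,20,49],[26,49]],[[33,48],[44],[32,49]],[[46]]] 372⟩,
⟨184729397633089,[],.kill 6 2 .one [[[0]],[],[],[[6]],[],[],[[6,48],[12]],[],[],[],[[20]],[],[[24]],[[26]],[[24,48],[28]],[[30]],[[26,48],[32]],[],[],[],[],[[42]],[[42,48],[44]],[[26,27,48],[46]]] 391⟩,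
⟨184729397633153,[],.split 3 390 392⟩,
⟨184763757371521,[],.kill 17 13 .trace [[[0]],[],[],[[6]],[],[],[[12]],[],[],[],[[20]],[],[[24]],[[26]],[[28]],[[30]],[[32]],[[1,48],[34],[0,49]],[],[],[],[[21,48],[42],[20,49]],[[44]],[[1,28,48],[33,48],[46],[0,28,49],[32,49]]] 393⟩,
⟨81920,[],.map [2,0,1,2,3,2,1,0] [[],[],[],[],[],[],[],[],[],[],[[15]],[],[],[],[],[],[],[],[],[],[],[],[],[[16]]] 24⟩,
⟨70368744259584,[],.map [3] [[],[],[],[],[],[[14]],[],[],[],[],[],[],[],[],[],[[16]],[],[],[],[],[],[],[],[[46]]] 100⟩,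
⟨141287277805568,[(19,12),(34,19)],.split 23 395 396⟩,
⟨140772384964625,[],.map [1,2] [[],[],[],[],[],[],[],[[0]],[[4]],[],[],[],[[28]],[],[],[],[],[],[],[[34]],[],[],[],[[46]]] 397⟩,
⟨141287281999872,[],.kill 11 3 (.ratio 29) [[],[],[],[],[],[],[],[[14]],[[16]],[],[],[[14,48],[22]],[[16,48],[24]],[],[],[],[],[],[[14,16,48]],[[14,15,48],[38]],[],[],[[14,15,16,48]],[[14,15,24,48],[14,16,23,48],[15,16,22,48],[46]]] 248⟩,
⟨140772452073489,[],.map [1,2] [[],[],[],[],[],[],[],[[0]],[[4]],[],[],[[26]],[[28]],[],[],[],[],[],[],[[34]],[],[],[],[[46]]] 399⟩,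
⟨149568612204561,[(34,21)],.split 13 398 400⟩,
⟨141287286194176,[],.split 11 397 399⟩,
⟨140772519182353,[],.map [1,2] [[],[],[],[],[],[],[],[[0]],[[4]],[],[],[[26]],[[28]],[],[],[],[],[],[],[[34]],[],[],[],[[46]]] 402⟩,
⟨184752984293393,[(34,21)],.kill 22 21 .one [[[0]],[],[[4]],[],[],[],[],[],[],[],[],[],[],[[26]],[[28]],[],[],[[34]],[],[],[],[],[[4,48],[44]],[[46]]] 403⟩,
⟨184720136601665,[],.map [0,1] [[[0]],[],[[6]],[],[],[],[],[],[],[],[],[],[],[[20]],[[24]],[],[],[[30]],[],[],[],[[44]],[[46]],[[42]]] 404⟩,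
⟨185269892415553,[],.kill 19 16 .trace [[[0]],[],[],[[6]],[],[],[],[],[],[],[[20]],[],[[24]],[],[],[[30]],[],[],[],[[1,48],[38],[0,49]],[],[[42]],[[21,48],[44],[20,49]],[[1,24,48],[46],[0,24,49]]] 405⟩,
⟨184755131777041,[],.map [1,0] [[[0]],[],[],[[4]],[],[],[],[],[],[],[[26]],[],[[28]],[],[],[[34]],[],[],[],[[30]],[],[[46]],[[42]],[[44]]] 406⟩,
⟨149568613253137,[],.kill 10 8 (.ratio 24) [[[0]],[],[[4]],[],[],[],[],[],[],[],[[0,48],[20]],[],[],[[26]],[[28]],[[0,1,48]],[],[[34]],[],[],[],[[34,48],[42]],[[0,1,28,48]],[[46]]] 407⟩,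
⟨149568614301713,[],.split 10 401 408⟩,
⟨184752986390545,[],.kill 22 21 .one [[[0]],[],[[4]],[],[],[],[],[],[],[],[[20]],[],[],[[26]],[[28]],[],[],[[34]],[],[],[],[[42]],[[4,48],[44]],[[46]]] 409⟩,
⟨185302742204433,[],.kill 19 16 .trace [[[0]],[],[[4]],[],[],[],[],[],[],[],[[20]],[],[],[[26]],[[28]],[],[],[[34]],[],[[1,48],[38],[0,49]],[],[[42]],[[21,48],[44],[20,49]],[[27,48],[46],[26,49]]] 410⟩,
⟨184761576325137,[],.kill 16 13 .one [[[0]],[],[[4]],[],[],[],[],[],[],[],[[20]],[],[],[[26]],[[28]],[],[[4,48],[32]],[[1,48],[34],[0,49]],[],[[1,4,48],[0,4,49]],[],[[21,48],[42],[20,49]],[[4,21,48],[44],[4,20,49]],[[1,28,48],[4,27,48],[33,48],[46],[4,48,49],[0,28,49],[4,26,49],[32,49]]] 411⟩,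
⟨184763723808785,[],.kill 15 10 .trace [[[0]],[],[[4]],[],[],[],[],[],[],[],[[20]],[],[],[[26]],[[28]],[[1,48],[30],[0,49]],[[32]],[[34]],[],[],[],[[27,48],[42],[26,49]],[[1,28,48],[33,48],[44],[0,28,49],[32,49]],[[46]]] 412⟩,
⟨184763757371537,[(11,3),(16,12)],.kill 6 3 .one [[[0]],[],[[4]],[],[],[],[[4,48],[12]],[],[],[],[[20]],[],[],[[20,48],[26]],[[28]],[[30]],[[32]],[[30,48],[34]],[],[],[],[[20,21,48],[42]],[[44]],[[44,48],[46]]] 413⟩,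
⟨184763757371553,[],.split 2 394 414⟩,
⟨186962780627105,[],.kill 20 18 .one [[[0]],[],[[4]],[[6]],[],[],[[12]],[],[],[],[[20]],[],[[24]],[[26]],[[28]],[[30]],[[32]],[[34]],[],[],[[1,48],[40]],[[42]],[[44]],[[46]]] 415⟩,
⟨187649975394465,[(30,18)],.kill 19 16 .trace [[[0]],[],[[4]],[[6]],[],[],[[12]],[],[],[],[[20]],[],[[24]],[[26]],[[28]],[[30]],[[32]],[[34]],[],[[1,48],[38],[0,49]],[[40]],[[42]],[[21,48],[44],[20,49]],[[1,24,48],[27,48],[46],[0,24,49],[26,49]]] 416⟩,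
⟨187649984307361,[(13,9)],.kill 11 9 .one [[[0]],[],[[4]],[[6]],[],[],[[12]],[],[],[],[[20]],[[0,48],[22]],[[24]],[[26]],[[28]],[[30]],[[32]],[[34]],[[20,48],[36]],[[38]],[[0,21,48],[30,48],[40]],[[42]],[[44]],[[20,23,48],[41,48],[46],[30,48,49],[21,22,49],[40,49]]] 417⟩,
⟨187649984473249,[(5,5),(9,8)],.kill 7 5 .one [[[0]],[],[[4]],[[6]],[],[],[[12]],[[0,48],[14]],[],[[6,48],[18]],[[20]],[[0,6,48],[22]],[[24]],[[26]],[[19,48],[28],[6,48,49],[18,49]],[[30]],[[32],[6,14,49],[22,49]],[[34]],[[26,48],[36]],[[0,6,15,48],[38],[0,1,6,48,49],[1,6,14,49]],[[0,6,21,48],[34,48],[40]],[[42]],[[6,15,20,48],[41,48],[44],[34,48,49],[6,14,21,49],[40,49]],[[0,6,15,24,48],[6,15,26,48],[23,26,48],[46],[0,1,6,24,48,49],[1,6,14,24,49],[6,14,27,49],[22,27,49]]] 418⟩,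
⟨187649984473769,[(2,1)],.kill 4 1 .one [[[0]],[],[[4]],[[6]],[[0,48],[8]],[[4,48],[10]],[[12]],[[0,4,48],[14]],[[11,48],[16],[4,48,49],[10,49]],[[4,6,48],[12,48],[18]],[[20],[4,8,49],[14,49]],[[0,4,6,48],[22]],[[19,48],[24],[4,6,48,49],[12,48,49],[18,49]],[[26],[4,6,8,49],[22,49]],[[4,6,11,48],[11,12,48],[28],[4,4,6,48,49],[4,12,48,49],[4,6,10,49],[10,12,49]],[[0,4,9,48],[30],[0,1,4,48,49],[1,4,8,49]],[[0,4,6,11,48],[32],[0,4,4,6,48,49],[4,6,14,49],[4,8,12,49],[12,14,49]],[[0,4,6,9,48],[34],[0,1,4,6,48,49],[1,4,6,8,49]],[[0,4,6,11,48,48],[0,4,6,16,48],[32,48],[36],[0,4,4,6,48,48,49],[0,4,6,10,48,49],[4,6,14,48,49],[4,8,12,48,49],[12,14,48,49],[4,6,8,10,49],[4,8,18,49],[14,18,49]],[[0,4,6,15,48],[0,4,9,12,48],[38],[0,1,4,4,6,48,49],[0,1,4,12,48,49],[1,4,6,14,49],[1,4,8,12,49]],[[0,4,4,6,9,48,48],[0,4,6,9,10,48],[0,4,6,15,48,48],[0,4,6,21,48],[0,4,9,12,48,48],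[0,4,9,18,48],[4,6,9,14,48],[38,48],[40],[0,1,4,6,10,48,49],[0,1,4,12,48,48,49],[0,1,4,18,48,49],[1,4,8,12,48,49],[1,4,6,8,10,49],[1,4,8,18,49]],[[0,4,6,9,11,48,48],[0,4,6,9,16,48],[0,4,9,19,48,48],[0,4,9,24,48],[4,6,9,20,48],[41,48],[42],[0,1,4,6,10,48,49,49],[0,1,4,6,11,48,48,49],[0,1,4,6,16,48,49],[0,1,4,12,48,48,49,49],[0,1,4,18,48,49,49],[0,1,4,19,48,48,49],[0,1,4,24,48,49],[0,4,6,9,10,48,49],[0,4,9,12,48,48,49],[0,4,9,18,48,49],[1,4,6,8,11,48,49],[1,4,8,12,48,49,49],[1,4,8,19,48,49],[4,4,6,8,9,48,49],[4,6,8,15,48,49],[4,6,9,14,48,49],[38,48,49],[1,4,6,8,10,49,49],[1,4,6,8,16,49],[1,4,8,18,49,49],[1,4,8,24,49],[4,6,8,21,49],[40,49]],[[0,4,4,6,9,11,48,48],[0,4,6,9,10,11,48],[0,4,6,11,21,48],[0,4,6,15,16,48],[0,4,9,12,16,48],[0,4,9,28,48],[4,6,9,11,14,48],[4,6,15,20,48],[4,9,12,20,48],[12,15,20,48],[44],[0,1,4,4,4,6,48,48,49,49],[0,1,4,4,6,10,48,49,49],[0,1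,4,4,6,11,48,48,49],[0,1,4,4,6,16,48,49],[0,1,4,6,10,11,48,49],[0,1,4,12,16,48,49],[0,1,4,28,48,49],[0,4,4,4,6,9,48,48,49],[0,4,4,6,21,48,49],[0,4,6,10,15,48,49],[1,4,4,4,6,8,48,49,49],[1,4,4,6,20,48,49],[1,4,6,11,14,48,49],[4,4,6,8,15,48,49],[4,4,6,9,14,48,49],[4,4,8,9,12,48,49],[4,6,14,15,48,49],[4,8,12,15,48,49],[4,9,12,14,48,49],[12,14,15,48,49],[1,4,4,6,8,10,49,49],[1,4,6,8,10,11,49],[1,4,6,10,20,49],[1,4,6,14,16,49],[1,4,8,12,16,49],[1,4,8,28,49],[4,6,8,10,15,49],[4,6,14,21,49],[4,8,12,21,49],[12,14,21,49]],[[0,4,4,6,6,9,11,48,48],[0,4,6,9,10,19,48],[0,4,6,9,11,18,48],[0,4,6,9,28,48],[0,4,6,11,27,48],[0,4,6,15,19,48,48],[0,4,6,15,24,48],[0,4,6,16,23,48],[0,4,9,12,24,48],[0,4,9,18,19,48],[4,6,9,11,22,48],[4,6,9,14,19,48],[4,6,15,26,48],[4,9,12,26,48],[4,9,19,22,48],[12,15,26,48],[15,19,22,48],[46],[0,1,4,4,6,6,10,48,49,49],[0,1,4,4,6,6,11,48,48,49],[0,1,4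,4,6,6,16,48,49],[0,1,4,4,6,12,48,48,49,49],[0,1,4,4,6,18,48,49,49],[0,1,4,4,6,19,48,48,49],[0,1,4,4,6,24,48,49],[0,1,4,6,10,19,48,49],[0,1,4,6,11,18,48,49],[0,1,4,6,28,48,49],[0,1,4,12,24,48,49],[0,1,4,18,19,48,49],[0,4,4,4,6,6,9,48,48,49],[0,4,4,6,6,15,48,48,49],[0,4,4,6,27,48,49],[0,4,6,10,23,48,49],[0,4,6,12,15,48,48,49],[0,4,6,15,18,48,49],[1,4,4,4,6,6,8,48,49,49],[1,4,4,6,6,14,48,49,49],[1,4,4,6,26,48,49],[1,4,6,11,22,48,49],[1,4,6,12,14,48,49,49],[1,4,6,14,19,48,49],[4,4,6,6,8,15,48,49],[4,4,6,6,9,14,48,49],[4,4,6,8,9,12,48,49],[4,6,8,12,15,48,49],[4,6,9,12,14,48,49],[1,4,4,6,6,8,10,49,49],[1,4,6,8,10,19,49],[1,4,6,8,11,18,49],[1,4,6,8,28,49],[1,4,6,10,26,49],[1,4,6,14,18,49,49],[1,4,6,14,24,49],[1,4,6,16,22,49],[1,4,8,12,24,49],[1,4,8,18,19,49],[4,6,8,10,23,49],[4,6,8,15,18,49],[4,6,14,27,49],[4,8,12,27,49],[4,8,18,23,49],[12,14,27,49],[14,18,23,49]]] 419⟩,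
⟨187649984473770,[],.split 0 384 420⟩]

/-- The nodes. -/
def table : NTable := [c0, c1, c2, c3, c4, c5, c6]

/-- The sets of the certificate. -/
def reps : List (List ℕ) := [[23],[20],[15,23],[10,23],[8,15,23],[5,15,23],[2,8,15,23]]

/-- The class representatives. -/
def classes : List (List ℕ) := [[23],[20],[10,23]]

/-- The products linking the sets to the classes. -/
def chains : List (List Step × ℕ) := [
  ([], 0),
  ([], 1),
  ([.x 9 [15,20], .w [0] [17,20], .w [1] [19,20], .w [2] [20,21], .tr 1 [[],[],[],[],[],[],[],[],[],[],[],[],[],[],[],[],[],[],[],[],[[]],[[],[48],[49]],[],[]] [20]], 1),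
  ([], 2),
  ([.x 0 [8,10,23], .w [3] [10,15,23], .tr 0 [[],[],[],[],[],[],[],[],[],[],[[]],[],[],[],[],[[],[48],[49]],[],[],[],[],[],[],[],[[]]] [10,23]], 2),
  ([.x 9 [5,15,20], .tr 5 [[],[],[],[],[],[[]],[],[],[],[],[],[],[],[],[],[[]],[],[],[],[],[[]],[],[[48],[49]],[]] [5,15,20,22], .x 17 [5,15], .w [0] [9,17], .w [1] [9,19], .w [2] [9,21], .w [1] [9,22], .w [0] [5,23], .w [3] [7,23], .w [2] [10,23]], 2),
  ([.x 1 [2,5,15,23], .x 14 [2,5,15,22,23], .x 17 [2,5,15,19,20,23], .w [0] [6,9,17,19,20,22], .w [2] [9,12,17,20,21,22], .tr 1 [[],[],[],[],[],[],[],[],[],[[]],[],[],[[],[48],[49]],[],[],[],[],[[]],[],[],[[]],[[],[48],[49]],[[]],[]] [9,17,20,22], .x 5 [9,17], .w [1] [9,19], .w [2] [9,21], .w [1] [9,22], .w [0] [5,23], .w [3] [7,23], .w [2] [10,23]], 2)]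

end Cfsg.Agent.Chevalley.InvolCert.TwE6
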