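import Cfsg.Agent.Lib.Chevalley.InvolCert.E6.Sys

/-!
Certificates for the involutions of the twisted groups of type E6 in characteristic two.

The positive roots fall into 24 orbits of the graph automorphism, ordered by height. The coordinate of
an orbit is an element `e j` of the field, fixed by the Frobenius map when the orbit is one root; the
variables are `e j` and its image, the last orbit number standing for a parameter.
-/

set_option autoImplicit false

namespace Cfsg.Agent.Chevalley.InvolCert.TwE6

open Cfsg.Lie Cfsg.Agent.Chevalley

/-- The orbits of positive roots, by positions. -/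
def orb : List (ℕ × ℕ) := [(0, 20), (1, 6), (3, 3), (10, 10), (2, 21), (4, 7), (11, 11), (5, 22),
  (8, 8), (12, 14), (9, 23), (13, 25), (15, 15), (16, 26), (17, 17), (24, 24), (18, 28), (27, 27),
  (19, 31), (29, 29), (30, 32), (33, 33), (34, 34), (35, 35)]

/-- The first root of an orbit. -/
def fst' (j : ℕ) : ℕ := (orb.getD j (0, 0)).1

/-- The second root of an orbit. -/
def snd' (j : ℕ) : ℕ := (orb.getD j (0, 0)).2

/-- An orbit is one root; the parameter follows the given flag. -/
def fx (sf : Bool) (j : ℕ) : Bool :=
  cond (Nat.blt j 24) (Nat.beq (fst' j) (snd' j)) (cond (Nat.beq j 24) sf true)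

/-- The conjugate variable. -/
def cv (sf : Bool) (x : ℕ) : ℕ :=
  cond (fx sf (x / 2)) x (cond (Nat.beq (x % 2) 0) (x + 1) (x - 1))

/-- The conjugate monomial. -/
def cM (sf : Bool) (m : List ℕ) : List ℕ := mulM (m.map (cv sf)) []

/-- The conjugate polynomial. -/
def cP (sf : Bool) (p : Poly) : Poly := p.map (cM sf)

/-- Two polynomials agree. -/
noncomputable def eqP (p q : Poly) : Bool := (addP p q).isEmpty

/-- The element of an orbit. -/
def el (sf : Bool) (j : ℕ) (p : Poly) : Word :=
  cond (Nat.beq (fst' j) (snd' j)) [(fst' j, p)] [(fst' j, p), (snd' j, cP sf p)]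

/-- The word of orbit coordinates. -/
def W (sf : Bool) (P : List Poly) : Word :=
  (List.range' 0 24).flatMap fun j => el sf j (P.getD j [])

/-- The coordinates of the fixed orbits are fixed. -/
noncomputable def okP (sf : Bool) (P : List Poly) : Bool :=
  (List.range' 0 24).all fun j => !(Nat.beq (fst' j) (snd' j)) || eqP (cP sf (P.getD j [])) (P.getD j [])

/-- The flag of an orbit. -/
def fl (st j : ℕ) : ℕ := st / 4 ^ j % 4

/-- Replace a flag. -/
def setFl (st j f : ℕ) : ℕ := st - fl st j * 4 ^ j + f * 4 ^ j

/-- The coordinates of a state. -/
def stP (st : ℕ) : List Poly :=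
  (List.range' 0 24).map fun j => cond (Nat.beq (fl st j) 0) [] [[2 * j]]

/-- The word of a state. -/
def stW (st : ℕ) : Word := W false (stP st)

/-- The coordinates of a set of orbits with parameter one. -/
def indP (S : List ℕ) : List Poly :=
  (List.range' 0 24).map fun j => cond (S.contains j) [[]] []

/-- All variables of a monomial are non-zero orbit coordinates. -/
def allNZ (st : ℕ) (m : List ℕ) : Bool :=
  m.all fun x => Nat.blt (x / 2) 24 && Nat.beq (fl st (x / 2)) 1

/-- The monomials without a coordinate known to vanish. -/
def live (st : ℕ) (p : Poly) : Poly :=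
  p.filter fun m => m.all fun x => !(Nat.blt (x / 2) 24 && Nat.beq (fl st (x / 2)) 0)

/-- The square of a state. -/
noncomputable def sq (st : ℕ) : Option (List Poly) := nf E6.sys (stW st ++ stW st)

/-- One deduction from the square. -/
def dedChk (c : Option (List Poly)) (st : ℕ) (ku : ℕ × ℕ) : Bool :=
  Nat.blt ku.1 36 && Nat.blt ku.2 24 &&
    match c with
    | some c =>
      (match live st (c.getD ku.1 []) with
      | [m] => m.all fun x =>
          Nat.beq (x / 2) ku.2 || (Nat.blt (x / 2) 24 && Nat.beq (fl st (x / 2)) 1)
      | _ => false)
    | none => false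

/-- All deductions. -/
def dedsChk (c : Option (List Poly)) : ℕ → List (ℕ × ℕ) → Option ℕ
  | st, [] => some st
  | st, ku :: l => if dedChk c st ku then dedsChk c (setFl st ku.2 0) l else none

/-- The ways to solve for the parameter. -/
inductive Kind where
  | one
  | trace
  | ratio (k' : ℕ)

/-- The last action of a node. -/
inductive Act where
  | empty
  | split (u a b : ℕ)
  | kill (k s : ℕ) (kind : Kind) (P : List Poly) (a : ℕ)
  | map (ws : List ℕ) (P : List Poly) (a : ℕ)
  | fin (tgt : ℕ) (E : List (ℕ × List ℤ))

/-- A node. -/
structure Node where
  st : ℕ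
  deds : List (ℕ × ℕ)
  act : Act

/-- A table of nodes, in chunks. -/
abbrev NTable := List (List Node)

/-- The node with a given number. -/
def NTable.get (C : NTable) (i : ℕ) : Node :=
  (C.getD (i / 64) []).getD (i % 64) ⟨0, [], .empty⟩

/-- A monomial contains the parameter. -/
def isT (m : List ℕ) : Bool := m.any fun x => Nat.beq (x / 2) 24

/-- The part of a monomial free of the parameter. -/
def qM (m : List ℕ) : List ℕ := m.filter fun x => !(Nat.beq (x / 2) 24)

/-- The parameters of a monomial. -/
def tM (m : List ℕ) : List ℕ := m.filter fun x => Nat.beq (x / 2) 24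

/-- The killed coordinate can be solved for the parameter. -/
noncomputable def kindChk (st : ℕ) (c : Option (List Poly)) (k s : ℕ) (p : Poly) : Kind → Bool
  | .one =>
    match p.filter isT with
    | [m] => allNZ st (qM m) && (Nat.beq (tM m).length 1 || Nat.beq (tM m).length 2) &&
        (cond (fx false s) ((tM m).all (fun x => Nat.beq x 48) && fx false k)
          (!(fx false k) &&
            ((tM m).all (fun x => Nat.beq x 48) || (tM m).all fun x => Nat.beq x 49)))
    | _ => false
  | .trace =>
    match p.filter isT with
    | [m, m'] => allNZ st (qM m) && eqM (tM m) [48] && fx false k && !(fx false s) &&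
        eqM (cM false m) m'
    | _ => false
  | .ratio k' =>
    match p.filter isT, p.filter (fun m => !(isT m)), c with
    | [m], [b], some c => allNZ st (qM m) && allNZ st b && eqM (tM m) [48] && fx false s &&
        Nat.blt k' 36 &&
        eqP (live st (c.getD k' []))
          [mulM (qM m) (cM false b), cM false (mulM (qM m) (cM false b))]
    | _, _, _ => false

/-- A flag of a child is implied. -/
def childFl (st k j f : ℕ) (p : Poly) : Bool :=
  if Nat.beq f 0 then Nat.beq j k || p.isEmpty
  else if Nat.beq f 1 then
    match p with
    | [m] => !(Nat.beq j k) && allNZ st m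
    | _ => false
  else true

/-- The flags of a child are implied. -/
def flagsOK (st k : ℕ) (P : List Poly) (child : ℕ) : Bool :=
  (List.range' 0 24).all fun j => childFl st k j (fl child j) (P.getD j [])

/-- The simple reflections of a word in the orbit reflections. -/
def wsL (ws : List ℕ) : List ℕ :=
  ws.flatMap fun a => ([[1], [3], [4, 2], [5, 0]] : List (List ℕ)).getD a []

/-- The graph automorphism on the simple roots. -/
def piS (i : ℕ) : ℕ := [5, 1, 4, 3, 2, 0].getD i 0

/-- The inner product with the Cartan integers of a root. -/
def dot (l : List ℤ) (r : ℕ) : ℤ :=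
  ((List.range 6).map fun i => l.getD i 0 * (E6.sys.car.getD i []).getD r 0).sum

/-- The inner product of the conjugate exponents with the Cartan integers of a root. -/
def dot' (l : List ℤ) (r : ℕ) : ℤ :=
  ((List.range 6).map fun i => l.getD (piS i) 0 * (E6.sys.car.getD i []).getD r 0).sum

/-- The exponents make the coordinate of one orbit arbitrary and keep those of the others. -/
def torStep (S : List ℕ) (a ex : ℕ) (l : List ℤ) : Bool :=
  cond (fx false a)
    (((List.range 6).all fun i => l.getD (piS i) 0 == l.getD i 0) &&
      S.all fun b => dot l (fst' b) == (if b == a then 2 ^ ex else 0) &&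
        dot l (snd' b) == (if b == a then 2 ^ ex else 0))
    (S.all fun b => dot l (fst' b) == (if b == a then 2 ^ ex else 0) && dot' l (fst' b) == 0 &&
      dot l (snd' b) == 0 && dot' l (snd' b) == (if b == a then 2 ^ ex else 0))

/-- The support of a state. -/
def supp (st : ℕ) : List ℕ := (List.range' 0 24).filter fun j => !Nat.beq (fl st j) 0

/-- All torus steps. -/
def torChk (S : List ℕ) (E : List (ℕ × List ℤ)) : Bool :=
  (List.range S.length).all fun n =>
    torStep S (S.getD n 0) (E.getD n (0, [])).1 (E.getD n (0, [])).2

/-- A word of fundamental orbit reflections maps a word to orbit coordinates. -/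
noncomputable def mapChk (ws : List ℕ) (w : Word) (sf : Bool) (P : List Poly) : Bool :=
  (ws.all fun a => Nat.blt a 4) &&
    match mapP E6.sys (wsL ws) (norm w) with
    | some w' => okP sf P && same E6.sys w' (W sf P)
    | none => false

/-- A node is correct. -/
noncomputable def nodeChk (reps : List (List ℕ)) (C : NTable) (idx : ℕ) : Bool :=
  match dedsChk (sq (C.get idx).st) (C.get idx).st (C.get idx).deds with
  | none => false
  | some st =>
    match (C.get idx).act with
    | .empty => (supp st).isEmpty
    | .split u a b => Nat.blt u 24 && Nat.blt a idx && Nat.blt b idx &&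
        Nat.beq (C.get a).st (setFl st u 0) && Nat.beq (C.get b).st (setFl st u 1)
    | .kill k s kind P a => Nat.blt k 24 && Nat.blt s 24 && Nat.blt a idx &&
        okP (fx false s) P &&
        same E6.sys (el (fx false s) s [[48]] ++ el (fx false s) s [[48]]) [] &&
        same E6.sys (el (fx false s) s [[48]] ++ stW st ++ el (fx false s) s [[48]])
          (W (fx false s) P) &&
        kindChk st (sq (C.get idx).st) k s (P.getD k []) kind &&
        flagsOK st k P (C.get a).st
    | .map ws P a => Nat.blt a idx && mapChk ws (stW st) false P &&
        flagsOK st 24 P (C.get a).st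
    | .fin tgt E => Nat.blt tgt reps.length && decide (reps.getD tgt [] = supp st) &&
        (supp st).all (fun j => Nat.beq (fl st j) 1) && torChk (supp st) E

/-- A range of nodes is correct. -/
noncomputable def rangeChk (reps : List (List ℕ)) (C : NTable) (a n : ℕ) : Bool :=
  (List.range' a n).all fun i => nodeChk reps C i

theorem rangeChk_spec {reps : List (List ℕ)} {C : NTable} {a n : ℕ}
    (h : rangeChk reps C a n = true) {i : ℕ} (h1 : a ≤ i) (h2 : i < a + n) :
    nodeChk reps C i = true :=
  List.all_eq_true.1 h i (List.mem_range'_1.2 ⟨h1, h2⟩)

/-- A step of a chain between sets of orbits. -/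
inductive Step where
  | x (s : ℕ) (res : List ℕ)
  | w (ws : List ℕ) (res : List ℕ)
  | tr (s : ℕ) (P : List Poly) (res : List ℕ)

/-- A coordinate takes the given value at a parameter of trace one. -/
noncomputable def trVal (p : Poly) (b : Bool) : Bool :=
  cond b (eqP p [[]] || eqP p [[48], [49]]) (p.isEmpty || eqP p [[], [48], [49]])

/-- A step leads to a set. -/
noncomputable def stepChk (S : List ℕ) : Step → Option (List ℕ)
  | .x s r =>
    if Nat.blt s 24 && (same E6.sys (el false s [[]] ++ el false s [[]]) [] &&
        same E6.sys (el false s [[]] ++ W false (indP S) ++ el false s [[]]) (W false (indP r))) then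
      some r
    else none
  | .w ws r => if mapChk ws (W false (indP S)) false (indP r) then some r else none
  | .tr s P r =>
    if Nat.blt s 24 && !(fx false s) && okP false P &&
        (same E6.sys (el false s [[48]] ++ el false s [[48]]) [] &&
          same E6.sys (el false s [[48]] ++ W false (indP S) ++ el false s [[48]]) (W false P)) &&
        (List.range' 0 24).all (fun j => trVal (P.getD j []) (r.contains j)) then
      some r
    else none

/-- A chain leads from one set to another. -/
noncomputable def chainChk : List ℕ → List Step → List ℕ → Bool
  | S, [], E => decide (S = E)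
  | S, st :: l, E =>
    match stepChk S st with
    | some r => chainChk r l E
    | none => false

/-- The chains lead from the sets to the classes. -/
noncomputable def chainsChk (reps classes : List (List ℕ)) (chains : List (List Step × ℕ)) : Bool :=
  (List.range reps.length).all fun i =>
    Nat.blt (chains.getD i ([], 0)).2 classes.length &&
      chainChk (reps.getD i []) (chains.getD i ([], 0)).1
        (classes.getD (chains.getD i ([], 0)).2 [])

/-- The coordinate of each orbit is its variable plus terms in the orbits before it. -/
noncomputable def triChk : Bool :=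
  match nf E6.sys (W false ((List.range' 0 24).map fun j => [[2 * j]])) with
  | some c => (List.range' 0 24).all fun j =>
      eqP ((c.getD (fst' j) []).filter fun m => m.any fun x => !(Nat.blt (x / 2) j)) [[2 * j]]
  | none => false

end Cfsg.Agent.Chevalley.InvolCert.TwE6
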