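import Cfsg.Agent.Lib.Chevalley.InvolCert.Rank
import Cfsg.Agent.Lib.Chevalley.InvolCert.E6.Sys

/-! The ranks of the displacements of the class representatives of the twisted groups of type E6. -/

set_option autoImplicit false
set_option maxHeartbeats 2000000
set_option maxRecDepth 100000

namespace Cfsg.Agent.Chevalley.InvolCert.TwE6

theorem rank0_ok : rankChk Data.E6.tab.col 78 [71]
    [([1],[77],77),([1,6],[0,3,5],5),([7],[52],52),([8],[53],53),([9],[54],54),([10],[55],55),([11],[56],56),([12],[57],57),([13],[58],58),([14],[59],59),([15],[60],60),([16],[61],61),([22],[67],67),([23],[68],68),([24],[69],69),([25],[70],70),([26],[71],71),([27],[72],72),([28],[73],73),([29],[74],74),([30],[75],75),([31],[76],76)]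
    [[],[0],[],[],[],[],[0,1],[2],[3],[4],[5],[6],[7],[8],[9],[10],[11],[],[],[],[],[],[12],[13],[14],[15],[16],[17],[18],[19],[20],[21],[],[],[],[],[],[],[],[],[],[],[],[],[],[],[],[],[],[],[],[],[],[],[],[],[],[],[],[],[],[],[],[],[],[],[],[],[],[],[],[],[],[],[],[],[],[]] = true := by decide +kernel

theorem rank1_ok : rankChk Data.E6.tab.col 78 [66,68]
    [([0],[72],72),([0,2],[74],74),([27],[66],66),([34],[69],69),([35],[71],71),([0,11],[0,1,2,5],5),([10],[42],42),([2,9,11],[2,4],4),([43],[75],75),([13],[44],44),([46],[76],76),([15],[47],47),([16],[51],51),([54],[77],77),([18],[55],55),([19],[58],58),([20],[60],60),([21],[61],61),([22],[62],62),([23],[63],63),([25],[64],64),([6,27],[27,29],29),([28],[65],65),([32],[67],67),([7,34],[34,37],37),([8,35],[35,40],40),([36],[68],68),([39],[70],70),([41],[73],73),([12,43],[43,48],48),([14,46],[46,49],49),([17,54],[54,56],56)]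
    [[0],[],[0,1],[],[0,1],[1],[2,21],[3,24],[4,25],[1,5,7],[6],[0,5],[8,29],[9],[10,30],[11],[12],[13,31],[14],[15],[16],[17],[18],[19],[],[20],[],[2],[22],[2],[],[],[23],[],[3],[4],[26],[3],[],[27],[4],[28],[],[8],[],[],[10],[],[8],[10],[],[],[],[],[13],[],[13],[],[],[],[],[],[],[],[],[],[],[],[],[],[],[],[],[],[],[],[],[]] = true := by decide +kernel

theorem rank2_ok : rankChk Data.E6.tab.col 78 [45,59,71]
    [([0,2],[65],65),([0,1],[77],77),([2],[51],51),([0,18,32],[0,5],5),([30],[75],75),([31],[76],76),([16],[61],61),([27],[72],72),([28],[73],73),([12],[57],57),([23,30],[30,68],68),([14],[59],59),([25,31],[31,70],70),([9,16],[16,54],54),([21],[50],50),([0,1,2,6,32],[0,2,4],4),([19],[43],43),([20],[46],46),([17,21],[21,41],41),([29],[74],74),([13,30],[30,58],58),([24],[69],69),([15,31],[31,60],60),([26],[71],71),([10,27],[27,55],55),([11,28],[28,56],56),([22,29],[29,67],67),([7,13,23,30],[13,23,30,52],52),([8,15,25,31],[15,25,31,53],53),([1,6,18,32],[3],3),([42],[66],66),([34],[44],44),([35],[47],47),([36],[48],48),([37],[63],63),([39],[49],49),([40],[64],64),([33,42],[42,62],62)]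
    [[0,2],[0,1,2],[2],[],[0],[0,2],[1,3,29],[4,10,20,27],[5,12,22,28],[6,13],[7,24],[8,25],[9],[4,20],[11],[5,22],[6],[14,18],[0,15,29],[16],[17],[14],[19,26],[4,10],[21],[5,12],[23],[7],[8],[19],[4],[5],[2,3,15,29],[30,37],[31],[32],[33],[34],[],[35],[36],[14],[30],[],[],[],[],[],[],[],[],[],[4,10,20],[5,12,22],[6],[7],[8],[],[4],[],[5],[],[30],[],[],[],[],[19],[4],[],[5],[],[],[],[],[],[],[]] = true := by decide +kernel


end Cfsg.Agent.Chevalley.InvolCert.TwE6
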