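import Cfsg.Agent.Lib.Chevalley.InvolCert.TwE6.Count
import Cfsg.Agent.Lib.Chevalley.InvolCert.TwE6.Check
import Cfsg.Agent.Lib.Chevalley.InvolCert.TwE6.Ranks

/-! The involution classes of the twisted groups of type E6 in characteristic two. -/

set_option autoImplicit false
set_option linter.unusedSectionVars false
set_option maxRecDepth 100000

namespace Cfsg.Agent.Chevalley.InvolCert.TwE6

open Cfsg.Lie Cfsg.Agent.Chevalley Cfsg.Agent.Chevalley.Table Cfsg.Agent.Chevalley.Cert
  Cfsg.Agent.Chevalley.Group Cfsg.Agent.Chevalley.Unip Cfsg.Agent.Chevalley.Borel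

variable {K : Type*} [Field K] [CharP K 2] [Fintype K] {q : ℕ} {hK : Fintype.card K = q ^ 2}
  (X : Twist.E6.Setup (K := K) hK) (hq : IsPrimePow q)

/-- The roots of a set of orbits. -/
def rootsOf (S : List ℕ) : List ℕ :=
  (List.range' 0 24).flatMap fun j =>
    cond (S.contains j) (cond (Nat.beq (fst' j) (snd' j)) [fst' j] [fst' j, snd' j]) []

include X hq

theorem rep_roots (S : List ℕ) : rep (K := K) q S = InvolCert.rep E6.sys hC6 (rootsOf S) := by
  rw [InvolCert.rep_eq E6.sys hC6 E6.tbl_ok, rep, rootsOf, WE]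
  have key : ∀ L : List ℕ, (∀ j ∈ L, j < 24) →
      (L.map fun j => oe q j (ind (K := K) S j)).prod =
        ((L.flatMap fun j => cond (S.contains j)
          (cond (Nat.beq (fst' j) (snd' j)) [fst' j] [fst' j, snd' j]) []).map
            fun i => xg hC6 (E6.sys.base + i) (1 : K)).prod := by
    intro L hL
    induction L with
    | nil => rfl
    | cons j L ih =>
      rw [List.map_cons, List.prod_cons, List.flatMap_cons, List.map_append, List.prod_append,
        ih fun i hi => hL i (List.mem_cons_of_mem _ hi)]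
      congr 1
      have hj := hL j List.mem_cons_self
      unfold ind oe
      by_cases hS : j ∈ S
      · rw [if_pos ⟨hS, hj⟩, show S.contains j = true by simpa using hS, cond_true]
        cases Nat.beq (fst' j) (snd' j)
        · simp only [cond_false, one_pow, List.map_cons, List.map_nil, List.prod_cons, List.prod_nil,
            mul_one]
          rfl
        · simp only [cond_true, List.map_cons, List.map_nil, List.prod_cons, List.prod_nil,
            mul_one]
          rfl
      · rw [if_neg fun h => hS h.1, show S.contains j = false by simpa using hS, cond_false]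
        cases Nat.beq (fst' j) (snd' j)
        · simp [zero_pow (q_pos X).ne', xg_zero Types.E6.certified]; rfl
        · simp [xg_zero Types.E6.certified]; rfl
  exact key _ fun j hj => by simp [List.mem_range'_1] at hj; omega

omit hq in
theorem rep_in (S : List ℕ) : rep (K := K) q S ∈ twistedE6 K q :=
  WE_mem X fun j _ _ => by
    unfold ind
    split
    · exact one_pow q
    · exact zero_pow (q_pos X).ne'

theorem rank_data {S : List ℕ} {bV : List (List ℕ × List ℕ × ℕ)} {ex : List (List ℕ)} {w : List ℕ}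
    (h : rankChk Data.E6.tab.col 78 w bV ex = true)
    (hw : (rootsOf S).map (fun i => E6.sys.base + i) = w)
    (hs : same E6.sys (oneW (rootsOf S) ++ oneW (rootsOf S)) [] = true) (h0 : 0 < bV.length) :
    (disp (rep (K := K) q S)).rank = bV.length ∧ orderOf (rep (K := K) q S) = 2 := by
  subst hw
  rw [rep_roots X hq]
  have hr := rank_rep (K := K) E6.sys hC6 E6.tbl_ok (n := 78) h (by decide +kernel)
  exact ⟨hr, order_two E6.sys hC6 E6.tbl_ok hs hr h0⟩

theorem classify (hq2 : 2 ∣ q) {g : GL chevE6.Idx K} (hg : g ∈ twistedE6 K q) (h2 : orderOf g = 2) :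
    ∃ S ∈ classes, Cj q g (rep q S) := by
  obtain ⟨x, hx, hU⟩ := exists_conj_U X hq hg h2 hq2
  have hsq : g * g = 1 := by rw [← pow_two, ← h2]; exact pow_orderOf_eq_one g
  have hne : g ≠ 1 := fun e => by rw [e, orderOf_one] at h2; omega
  have hcj : Cj q g (x * g * x⁻¹) := ⟨x, hx, rfl⟩
  obtain ⟨e, he, he24, hWE⟩ := exists_WE X hq hU (mul_mem (mul_mem hx hg) (inv_mem hx))
  have hsem : Sem (table.get 421).st e := fun j hj => by
    have h := List.all_eq_true.1 top_free j (List.mem_range'_1.2 ⟨Nat.zero_le _, by omega⟩)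
    rw [Nat.beq_eq] at h
    change fl (table.get 421).st j = 2 at h
    omega
  obtain ⟨r, hr, hcr⟩ := sound X hq table_ok 421 (by norm_num) e he he24 hsem
    (hWE ▸ hcj.sq hsq) (hWE ▸ hcj.ne hne)
  rw [hWE] at hcr
  obtain ⟨i, hi, rfl⟩ := List.getElem_of_mem hr
  have hch := List.all_eq_true.1 chains_ok i (List.mem_range.2 hi)
  simp only [Bool.and_eq_true, Nat.blt_eq] at hch
  refine ⟨classes.getD (chains.getD i ([], 0)).2 [], ?_, hcj.trans (hcr.trans ?_)⟩
  · rw [List.getD_eq_getElem _ _ hch.1]
    exact List.getElem_mem _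
  · rw [← List.getD_eq_getElem reps [] hi]
    exact chain_sound X hq hch.2

theorem classes_eq : classes = [[23], [20], [10, 23]] := by decide +kernel

/-- The number of classes of involutions. -/
theorem ncard_classes (hq2 : 2 ∣ q) :
    (ConjClasses.mk '' {g : ↥(twistedE6 K q) | orderOf g = 2}).ncard = 3 := by
  classical
  have r0 := rank_data X hq (S := [23]) rank0_ok (by decide +kernel) (by decide +kernel) (by decide)
  have r1 := rank_data X hq (S := [20]) rank1_ok (by decide +kernel) (by decide +kernel) (by decide)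
  have r2 := rank_data X hq (S := [10, 23]) rank2_ok (by decide +kernel) (by decide +kernel)
    (by decide)
  have hinv : ∀ S S', Cj q (rep (K := K) q S) (rep q S') →
      (disp (rep (K := K) q S)).rank = (disp (rep (K := K) q S')).rank := by
    rintro S S' ⟨x, -, e⟩
    rw [← e, rank_disp_conj]
  obtain ⟨f, hf⟩ : ∃ f : List ℕ → ConjClasses ↥(twistedE6 K q),
      f = fun S => ConjClasses.mk ⟨rep q S, rep_in X S⟩ := ⟨_, rfl⟩
  have heq : ConjClasses.mk '' {g : ↥(twistedE6 K q) | orderOf g = 2} =
      {f [23], f [20], f [10, 23]} := by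
    ext c
    simp only [Set.mem_image, Set.mem_setOf_eq, Set.mem_insert_iff, Set.mem_singleton_iff]
    constructor
    · rintro ⟨g, hg, rfl⟩
      obtain ⟨S, hS, x, hx, e⟩ := classify X hq hq2 g.2 ((Subgroup.orderOf_coe g).trans hg)
      have hgS : ConjClasses.mk g = f S := by
        rw [hf]
        exact ConjClasses.mk_eq_mk_iff_isConj.2 (isConj_iff.2 ⟨⟨x, hx⟩, Subtype.ext e⟩)
      rw [classes_eq X hq] at hS
      simp only [List.mem_cons, List.not_mem_nil, or_false] at hS
      rcases hS with rfl | rfl | rfl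
      exacts [Or.inl hgS, Or.inr (Or.inl hgS), Or.inr (Or.inr hgS)]
    · subst hf
      rintro (rfl | rfl | rfl)
      exacts [⟨_, (Subgroup.orderOf_mk _ _).trans r0.2, rfl⟩,
        ⟨_, (Subgroup.orderOf_mk _ _).trans r1.2, rfl⟩, ⟨_, (Subgroup.orderOf_mk _ _).trans r2.2, rfl⟩]
  have hne : ∀ S S', (disp (rep (K := K) q S)).rank ≠ (disp (rep (K := K) q S')).rank → f S ≠ f S' := by
    intro S S' h e
    rw [hf] at e
    obtain ⟨x, hx⟩ := isConj_iff.1 (ConjClasses.mk_eq_mk_iff_isConj.1 e)
    exact h (hinv S S' ⟨x, x.2, congrArg Subtype.val hx⟩)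
  rw [heq, Set.ncard_eq_three]
  refine ⟨f [23], f [20], f [10, 23], hne _ _ ?_, hne _ _ ?_, hne _ _ ?_, rfl⟩
  · rw [r0.1, r1.1]; decide
  · rw [r0.1, r2.1]; decide
  · rw [r1.1, r2.1]; decide

end Cfsg.Agent.Chevalley.InvolCert.TwE6
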