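import Cfsg.Agent.Lib.Chevalley.InvolCert.TwE6.Defs
import Cfsg.Agent.Lib.Chevalley.InvolCert.Final
import Cfsg.Agent.Lib.Chevalley.Twist.CountE6

/-! The fixed root elements, monomial elements and torus elements of the twisted group. -/

set_option autoImplicit false
set_option linter.unusedSectionVars false
set_option maxRecDepth 100000

namespace Cfsg.Agent.Chevalley.InvolCert.TwE6

open Cfsg.Lie Cfsg.Agent.Chevalley Cfsg.Agent.Chevalley.Table Cfsg.Agent.Chevalley.Cert
  Cfsg.Agent.Chevalley.Group Cfsg.Agent.Chevalley.Unip Cfsg.Agent.Chevalley.Borel Cfsg.Agent.Chevalley.Weyl Cfsg.Agent.Chevalley.TorusCard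

variable {K : Type*} [Field K] [CharP K 2]

/-- The table is certified. -/
abbrev hC6 : Certified E6.sys.D Data.E6.tab := Types.E6.certified

/-- The root element of an orbit. -/
noncomputable def oe (q j : ℕ) (t : K) : GL chevE6.Idx K :=
  cond (Nat.beq (fst' j) (snd' j)) (xg Types.E6.certified (36 + fst' j) t)
    (xg Types.E6.certified (36 + fst' j) t * xg Types.E6.certified (36 + snd' j) (t ^ q))

/-- The element with given orbit coordinates. -/
noncomputable def WE (q : ℕ) (e : ℕ → K) : GL chevE6.Idx K :=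
  ((List.range' 0 24).map fun j => oe q j (e j)).prod

theorem orb_ok : ∀ j < 24, fst' j < 36 ∧ snd' j < 36 ∧
    Types.GAut.tabE6.ρ (36 + fst' j) = 36 + snd' j ∧ Types.GAut.tabE6.ρ (36 + snd' j) = 36 + fst' j ∧
    (fst' j = snd' j ∨ same E6.sys [(fst' j, [[0]]), (snd' j, [[1]])]
      [(snd' j, [[1]]), (fst' j, [[0]])] = true) := by
  have h : ((List.range 24).all fun j => Nat.blt (fst' j) 36 && Nat.blt (snd' j) 36 &&
      Nat.beq (Types.GAut.tabE6.ρ (36 + fst' j)) (36 + snd' j) &&
      Nat.beq (Types.GAut.tabE6.ρ (36 + snd' j)) (36 + fst' j) &&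
      (Nat.beq (fst' j) (snd' j) || same E6.sys [(fst' j, [[0]]), (snd' j, [[1]])]
        [(snd' j, [[1]]), (fst' j, [[0]])])) = true := by decide +kernel
  intro j hj
  have := List.all_eq_true.1 h j (List.mem_range.2 hj)
  simp only [Bool.and_eq_true, Bool.or_eq_true, Nat.blt_eq, Nat.beq_eq] at this
  obtain ⟨⟨⟨⟨h1, h2⟩, h3⟩, h4⟩, h5⟩ := this
  exact ⟨h1, h2, h3, h4, h5⟩

variable [Fintype K] {q : ℕ} {hK : Fintype.card K = q ^ 2} (X : Twist.E6.Setup (K := K) hK)
include X

theorem qq (t : K) : (t ^ q) ^ q = t := by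
  rw [← pow_mul, ← pow_two, ← hK, FiniteField.pow_card]

theorem q_pos : 0 < q := by
  by_contra h
  have : Fintype.card K = 0 := by rw [hK, show q = 0 by omega]; rfl
  exact Fintype.card_ne_zero this

theorem frob_add (hq : IsPrimePow q) (a b : K) : (a + b) ^ q = a ^ q + b ^ q := by
  obtain ⟨θ, hθ⟩ := Twist.E6.exists_powq hq two_ne_zero hK
  rw [← hθ, ← hθ, ← hθ, map_add]

theorem act_eq : ∀ r < chevE6.nroots, ∀ t, X.S.act r t = t ^ q := by
  refine Root.simple_induction Types.E6.certified (fun i hi t => ?_) fun r hr i hi ih t => ?_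
  · rw [X.S.act_simple i hi, X.hom_eq i hi]
  · have hl : ∀ j ∈ [i], j < chevE6.rank := by simp [hi]
    have hl' : ∀ j ∈ [X.S.π i], j < chevE6.rank := by simp [X.S.π_lt i hi]
    have hr' := Types.E6.certified.reflect_lt hi hr
    have h1 := ((Twist.img_nL (hC := Types.E6.certified) X.S hl).mul (Twist.img_xg X.S hr t)).mul
      (Twist.img_nL (hC := Types.E6.certified) X.S hl).inv
    rw [List.map_cons, List.map_nil, Twist.CharTwo.nL_conj hl hr,
      Twist.CharTwo.nL_conj hl' (X.S.ρ_lt r hr)] at h1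
    have h2 : wL chevE6 [i] r = chevE6.reflectRoot i r := rfl
    have h3 : wL chevE6 [X.S.π i] (X.S.ρ r) = X.S.ρ (chevE6.reflectRoot i r) :=
      (Twist.ρ_reflect X.S hi hr).symm
    rw [h2, h3, ih] at h1
    have h4 := (Twist.img_xg X.S hr' t).unique h1
    exact xg_injective Types.E6.certified (X.S.ρ_lt _ hr') h4

theorem mem_of_img {g : GL chevE6.Idx K} (h : Twist.Img X.S g g) : g ∈ twistedE6 K q :=
  Twist.Fx_le X.O X.gen ((Twist.mem_Fx X.S).2 h)

theorem oe_mem {j : ℕ} (hj : j < 24) {t : K} (ht : fst' j = snd' j → t ^ q = t) :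
    oe q j t ∈ twistedE6 K q := by
  obtain ⟨h1, h2, h3, h4, h5⟩ := orb_ok j hj
  refine mem_of_img X ?_
  have hn : chevE6.nroots = 72 := by decide +kernel
  have i1 := Twist.img_xg X.S (show 36 + fst' j < chevE6.nroots by omega) t
  rw [X.ρ_eq, h3, act_eq X _ (by omega)] at i1
  unfold oe
  by_cases e : fst' j = snd' j
  · rw [show Nat.beq (fst' j) (snd' j) = true by simp [e], cond_true]
    rw [← e, ht e] at i1
    exact i1
  · rw [show Nat.beq (fst' j) (snd' j) = false by
      cases h : Nat.beq (fst' j) (snd' j)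
      · rfl
      · exact absurd (Nat.eq_of_beq_eq_true h) e, cond_false]
    have i2 := Twist.img_xg X.S (show 36 + snd' j < chevE6.nroots by omega) (t ^ q)
    rw [X.ρ_eq, h4, act_eq X _ (by omega), qq X] at i2
    have hcomm := same_spec (fun x => if x = 0 then t else t ^ q) E6.sys Types.E6.certified
      E6.tbl_ok (h5.resolve_left e)
    simp [wev, pev, mev, xo, show E6.sys.base = 36 from rfl] at hcomm
    have h := i1.mul i2
    exact (congrArg (Twist.Img X.S _) hcomm.symm).mp h

theorem WE_mem {e : ℕ → K} (he : ∀ j < 24, fst' j = snd' j → e j ^ q = e j) :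
    WE q e ∈ twistedE6 K q :=
  list_prod_mem fun g hg => by
    obtain ⟨j, hj, rfl⟩ := List.mem_map.1 hg
    rw [List.mem_range'_1] at hj
    exact oe_mem X (by omega) (he j (by omega))

theorem WE_mem_U (e : ℕ → K) : WE q e ∈ chevE6.posUnipotent K :=
  list_prod_mem fun g hg => by
    obtain ⟨j, hj, rfl⟩ := List.mem_map.1 hg
    rw [List.mem_range'_1] at hj
    obtain ⟨h1, h2, -⟩ := orb_ok j (by omega)
    have hx : ∀ i < 36, ∀ u : K, xg Types.E6.certified (36 + i) u ∈ chevE6.posUnipotent K :=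
      fun i hi u => xo_mem E6.sys Types.E6.certified E6.tbl_ok hi u
    unfold oe
    cases Nat.beq (fst' j) (snd' j)
    · exact mul_mem (hx _ h1 _) (hx _ h2 _)
    · exact hx _ h1 _

theorem wsL_lt {ws : List ℕ} : ∀ i ∈ wsL ws, i < chevE6.rank := by
  intro i hi
  obtain ⟨a, -, hia⟩ := List.mem_flatMap.1 hi
  have h : ∀ a < 4, ∀ i ∈ ([[1], [3], [4, 2], [5, 0]] : List (List ℕ)).getD a [], i < chevE6.rank := by
    decide +kernel
  by_cases ha : a < 4
  · exact h a ha i hia
  · rw [List.getD_eq_default _ _ (by simp; omega)] at hia; simp at hia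

theorem nL_mem {ws : List ℕ} (h : ∀ a ∈ ws, a < 4) :
    nL Types.E6.certified K (wsL ws) ∈ twistedE6 K q := by
  refine mem_of_img X ?_
  induction ws with
  | nil => simpa [wsL, nL] using Twist.Img.one (S := X.S)
  | cons a ws ih =>
    rw [wsL, List.flatMap_cons, ← wsL, nL_append]
    refine Twist.Img.mul ?_ (ih fun b hb => h b (List.mem_cons_of_mem a hb))
    have ha := h a List.mem_cons_self
    have hlt := wsL_lt (q := q) X (ws := [a])
    rw [wsL, List.flatMap_cons, List.flatMap_nil, List.append_nil] at hlt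
    have h1 := Twist.img_nL (hC := Types.E6.certified) X.S hlt
    rw [X.π_eq] at h1
    have key : ∀ i j : ℕ, i < chevE6.rank → j < chevE6.rank →
        chevE6.reflectRoot i (chevE6.simple j) = chevE6.simple j →
        nL Types.E6.certified K [i, j] = nL Types.E6.certified K [j, i] := by
      intro i j hi hj hfix
      have hl : ∀ k ∈ [i], k < chevE6.rank := by simp [hi]
      have e := Twist.CharTwo.nL_conj_ng (hC := Types.E6.certified) (F := K) hl
        (Types.E6.certified.simple_lt hj) 1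
      rw [show wL chevE6 [i] (chevE6.simple j) = chevE6.simple j from hfix] at e
      simp only [nL, List.map_cons, List.map_nil, List.prod_cons, List.prod_nil, mul_one] at e ⊢
      exact mul_inv_eq_iff_eq_mul.1 e
    interval_cases a
    · exact h1
    · exact h1
    · refine (congrArg (Twist.Img X.S _) ?_).mp h1
      exact key 2 4 (by decide) (by decide) (by decide +kernel)
    · refine (congrArg (Twist.Img X.S _) ?_).mp h1
      exact key 0 5 (by decide) (by decide) (by decide +kernel)

theorem tor_mem {c : ℕ → Kˣ} (h : ∀ i < 6, (c (piS i) : K) = (c i : K) ^ q) :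
    tor chevE6 c ∈ twistedE6 K q := by
  refine mem_of_img X ?_
  obtain ⟨d, hd⟩ : ∃ d : Fin chevE6.rank → Kˣ, d = fun i : Fin chevE6.rank => c i := ⟨_, rfl⟩
  have hinv : ∀ j < chevE6.rank, X.S.π (Twist.nodePi Twist.E6.L j) = j := fun j hj => by
    rw [X.π_eq]; exact Twist.E6.πinv j hj
  have h1 := Twist.img_torHom X.S Twist.E6.πlt hinv d
  have h2 : Twist.tau X.S (Twist.nodePi Twist.E6.L) Twist.E6.πlt d = d := by
    funext j
    refine Units.ext ?_
    have hπ : ∀ i < 6, Twist.nodePi Twist.E6.L i = piS i := by decide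
    have hinv' : ∀ i < 6, piS (piS i) = i ∧ piS i < 6 := by decide
    have hj : (j : ℕ) < 6 := j.2
    show X.S.hom _ (d ⟨Twist.nodePi Twist.E6.L j, Twist.E6.πlt j j.2⟩ : K) = (d j : K)
    rw [X.hom_eq _ (Twist.E6.πlt j j.2), hd]
    simp only [hπ j hj]
    rw [← h (piS j) (hinv' j hj).2, (hinv' j hj).1]
  rw [h2] at h1
  have e : torHom chevE6 K d = tor chevE6 c := by
    show tor chevE6 _ = _
    exact dg_congr fun s _ => Finset.prod_congr rfl fun i hi => by
      rw [TorusCard.ext, dif_pos (Finset.mem_range.1 hi), hd]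
  rw [← e]
  exact h1

end Cfsg.Agent.Chevalley.InvolCert.TwE6
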