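import Cfsg.Agent.Lib.Chevalley.InvolCert.TwE6.Fix

/-! Soundness of the certificates of the twisted groups of type E6. -/

set_option autoImplicit false
set_option linter.unusedSectionVars false
set_option maxRecDepth 100000

namespace Cfsg.Agent.Chevalley.InvolCert.TwE6

open Cfsg.Lie Cfsg.Agent.Chevalley Cfsg.Agent.Chevalley.Table Cfsg.Agent.Chevalley.Cert
  Cfsg.Agent.Chevalley.Group Cfsg.Agent.Chevalley.Unip Cfsg.Agent.Chevalley.Borel

variable {K : Type*} [Field K] [CharP K 2]

/-- The values of the variables. -/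
def vv (q : ℕ) (e : ℕ → K) (x : ℕ) : K := if x % 2 = 0 then e (x / 2) else e (x / 2) ^ q

/-- The coordinates of the fixed orbits are fixed. -/
def Fixed (q : ℕ) (sf : Bool) (e : ℕ → K) : Prop := ∀ j, fx sf j = true → e j ^ q = e j

/-- Coordinates respect a state. -/
def Sem (st : ℕ) (e : ℕ → K) : Prop :=
  ∀ j < 24, (fl st j = 0 → e j = 0) ∧ (fl st j = 1 → e j ≠ 0)

theorem fl_setFl' {st v f i : ℕ} (hf : f < 4) :
    fl (setFl st v f) i = if i = v then f else fl st i :=
  InvolCert.fl_setFl (st := st) (v := v) (i := i) hf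

theorem Sem.set_zero {st u : ℕ} {e : ℕ → K} (h : Sem st e) (hu : e u = 0) :
    Sem (setFl st u 0) e := fun i hi => by
  rw [fl_setFl' (by norm_num)]
  by_cases h' : i = u
  · subst h'; simp [hu]
  · simp only [if_neg h']; exact h i hi

theorem Sem.set_one {st u : ℕ} {e : ℕ → K} (h : Sem st e) (hu : e u ≠ 0) :
    Sem (setFl st u 1) e := fun i hi => by
  rw [fl_setFl' (by norm_num)]
  by_cases h' : i = u
  · subst h'; simp [hu]
  · simp only [if_neg h']; exact h i hi

theorem fx_false {j : ℕ} (hj : j < 24) (sf : Bool) :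
    fx sf j = Nat.beq (fst' j) (snd' j) := by
  rw [fx, show Nat.blt j 24 = true by simp only [Nat.blt_eq]; exact hj, cond_true]

theorem fx_iff {j : ℕ} (hj : j < 24) {sf : Bool} : fx sf j = true ↔ fst' j = snd' j := by
  rw [fx_false hj, Nat.beq_eq]

theorem fx_param (sf : Bool) : fx sf 24 = sf := by
  rw [fx, show Nat.blt 24 24 = false from rfl, cond_false, show Nat.beq 24 24 = true from rfl,
    cond_true]

theorem vv_two (q : ℕ) (e : ℕ → K) (j : ℕ) : vv q e (2 * j) = e j := by
  rw [vv, if_pos (by omega), show 2 * j / 2 = j by omega]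

theorem vv_two_succ (q : ℕ) (e : ℕ → K) (j : ℕ) : vv q e (2 * j + 1) = e j ^ q := by
  rw [vv, if_neg (by omega), show (2 * j + 1) / 2 = j by omega]

theorem vv_ne {q : ℕ} {e : ℕ → K} {x : ℕ} (h : e (x / 2) ≠ 0) : vv q e x ≠ 0 := by
  unfold vv
  split
  · exact h
  · exact pow_ne_zero _ h

theorem allNZ_ne {q st : ℕ} {e : ℕ → K} (h : Sem st e) {m : List ℕ} (hm : allNZ st m = true) :
    mev (vv q e) m ≠ 0 := by
  intro e0
  rw [mev, List.prod_eq_zero_iff, List.mem_map] at e0
  obtain ⟨x, hx, hx0⟩ := e0
  have := List.all_eq_true.1 hm x hx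
  simp only [Bool.and_eq_true, Nat.blt_eq, Nat.beq_eq] at this
  exact vv_ne ((h _ this.1).2 this.2) hx0

theorem eqP_spec {p p' : Poly} (h : eqP p p' = true) (v : ℕ → K) : pev v p = pev v p' := by
  have e := pev_addP v p p'
  rw [List.isEmpty_iff.1 h] at e
  exact _root_.CharTwo.add_eq_zero.1 e.symm

theorem split_filter' (v : ℕ → K) (P : List ℕ → Bool) : ∀ p : Poly,
    pev v p = pev v (p.filter fun m => !P m) + pev v (p.filter P)
  | [] => by simp [pev]
  | m :: p => by
    have ih := split_filter' v P p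
    simp only [pev, List.map_cons, List.sum_cons] at ih ⊢
    rw [ih, List.filter_cons, List.filter_cons]
    cases P m <;> simp <;> ring

theorem split_mev (v : ℕ → K) (P : ℕ → Bool) : ∀ m : List ℕ,
    mev v m = mev v (m.filter fun x => !P x) * mev v (m.filter P)
  | [] => by simp [mev]
  | x :: m => by
    have ih := split_mev v P m
    simp only [mev, List.map_cons, List.prod_cons] at ih ⊢
    rw [ih, List.filter_cons, List.filter_cons]
    cases P x <;> simp <;> ring

theorem mev_all {v : ℕ → K} {y : ℕ} : ∀ {m : List ℕ}, (m.all fun x => Nat.beq x y) = true →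
    mev v m = v y ^ m.length
  | [], _ => by simp [mev]
  | x :: m, h => by
    simp only [List.all_cons, Bool.and_eq_true, Nat.beq_eq] at h
    rw [show mev v (x :: m) = v x * mev v m by simp [mev], mev_all h.2, h.1, List.length_cons,
      pow_succ']

variable [Fintype K] {q : ℕ} {hK : Fintype.card K = q ^ 2} (X : Twist.E6.Setup (K := K) hK)
  (hq : IsPrimePow q)
include X hq

theorem vv_cv {sf : Bool} {e : ℕ → K} (he : Fixed q sf e) (x : ℕ) :
    vv q e (cv sf x) = vv q e x ^ q := by
  unfold cv
  cases hf : fx sf (x / 2)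
  · rcases Nat.mod_two_eq_zero_or_one x with h | h
    · rw [cond_false, show Nat.beq (x % 2) 0 = true by rw [h]; rfl, cond_true,
        show x + 1 = 2 * (x / 2) + 1 by omega, vv_two_succ]
      conv_rhs => rw [show x = 2 * (x / 2) by omega, vv_two]
    · rw [cond_false, show Nat.beq (x % 2) 0 = false by rw [h]; rfl, cond_false,
        show x - 1 = 2 * (x / 2) by omega, vv_two]
      conv_rhs => rw [show x = 2 * (x / 2) + 1 by omega, vv_two_succ, qq X]
  · rw [cond_true]
    rcases Nat.mod_two_eq_zero_or_one x with h | h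
    · rw [show x = 2 * (x / 2) by omega, vv_two, he _ hf]
    · rw [show x = 2 * (x / 2) + 1 by omega, vv_two_succ, qq X, he _ hf]

theorem mev_cM {sf : Bool} {e : ℕ → K} (he : Fixed q sf e) (m : List ℕ) :
    mev (vv q e) (cM sf m) = mev (vv q e) m ^ q := by
  rw [cM, mev_mulM, show mev (vv q e) [] = 1 from rfl, mul_one]
  induction m with
  | nil => simp [mev]
  | cons x m ih =>
    simp only [mev, List.map_cons, List.prod_cons] at ih ⊢
    rw [ih, vv_cv X hq he, mul_pow]

theorem pev_cP {sf : Bool} {e : ℕ → K} (he : Fixed q sf e) (p : Poly) :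
    pev (vv q e) (cP sf p) = pev (vv q e) p ^ q := by
  induction p with
  | nil =>
    show (0 : K) = 0 ^ q
    rw [zero_pow (q_pos X).ne']
  | cons m p ih =>
    simp only [pev, cP, List.map_cons, List.sum_cons] at ih ⊢
    rw [frob_add X hq, ih, mev_cM X hq he]

theorem wev_el {sf : Bool} {e : ℕ → K} (he : Fixed q sf e) (j : ℕ) (p : Poly) :
    wev (vv q e) E6.sys hC6 (el sf j p) = oe q j (pev (vv q e) p) := by
  unfold el oe
  cases Nat.beq (fst' j) (snd' j)
  · rw [cond_false, cond_false, wev_cons, wev_cons, wev_nil, mul_one, pev_cP X hq he]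
    rfl
  · rw [cond_true, cond_true, wev_cons, wev_nil, mul_one]
    rfl

theorem wev_W {sf : Bool} {e : ℕ → K} (he : Fixed q sf e) (P : List Poly) :
    wev (vv q e) E6.sys hC6 (W sf P) = WE q fun j => pev (vv q e) (P.getD j []) := by
  rw [W, WE]
  induction (List.range' 0 24) with
  | nil => rfl
  | cons j l ih =>
    rw [List.flatMap_cons, List.map_cons, List.prod_cons, wev_append, wev_el X hq he, ih]
    rfl

theorem okP_fixed {sf : Bool} {e : ℕ → K} (he : Fixed q sf e) {P : List Poly}
    (h : okP sf P = true) {j : ℕ} (hj : j < 24) (hf : fst' j = snd' j) :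
    pev (vv q e) (P.getD j []) ^ q = pev (vv q e) (P.getD j []) := by
  have h' := List.all_eq_true.1 h j (List.mem_range'_1.2 ⟨Nat.zero_le _, by omega⟩)
  rw [show Nat.beq (fst' j) (snd' j) = true by simp [hf], Bool.not_true, Bool.false_or] at h'
  rw [← pev_cP X hq he, eqP_spec h']

/-- The coordinates of a child. -/
noncomputable def chi (q : ℕ) (e : ℕ → K) (P : List Poly) (j : ℕ) : K :=
  if j < 24 then pev (vv q e) (P.getD j []) else 0

omit X hq in
theorem WE_chi (e : ℕ → K) (P : List Poly) :
    WE q (chi q e P) = WE q fun j => pev (vv q e) (P.getD j []) :=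
  congrArg List.prod (List.map_congr_left fun j hj => by
    rw [chi, if_pos (by simp [List.mem_range'_1] at hj; omega)])

theorem chi_fixed {sf : Bool} {e : ℕ → K} (he : Fixed q sf e) {P : List Poly}
    (h : okP sf P = true) : Fixed q false (chi q e P) := by
  intro j hf
  unfold chi
  split
  · next hj => exact okP_fixed X hq he h hj ((fx_iff hj).1 hf)
  · exact zero_pow (q_pos X).ne'

theorem stP_fixed {e : ℕ → K} (he : Fixed q false e) {st : ℕ} (h : Sem st e) {j : ℕ} (hj : j < 24) :
    pev (vv q e) ((stP st).getD j []) = e j := by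
  rw [stP, List.getD_eq_getElem _ _ (by simpa using hj), List.getElem_map, List.getElem_range']
  simp only [zero_add, one_mul]
  by_cases e0 : fl st j = 0
  · rw [show Nat.beq (fl st j) 0 = true by simp [e0], cond_true, (h j hj).1 e0]; rfl
  · rw [InvolCert.nbeq_eq_false e0, cond_false]
    simp [pev, mev, vv_two]

theorem wev_stW {e : ℕ → K} (he : Fixed q false e) {st : ℕ} (h : Sem st e) :
    wev (vv q e) E6.sys hC6 (stW st) = WE q e := by
  rw [stW, wev_W X hq he, WE, WE]
  exact congrArg List.prod (List.map_congr_left fun j hj => by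
    rw [stP_fixed X hq he h (by simp [List.mem_range'_1] at hj; omega)])

/-- Conjugacy in the twisted group. -/
def Cj (q : ℕ) (x y : GL chevE6.Idx K) : Prop := ∃ g ∈ twistedE6 K q, g * x * g⁻¹ = y

omit X hq in
theorem Cj.trans {x y z : GL chevE6.Idx K} : Cj q x y → Cj q y z → Cj q x z := by
  rintro ⟨g, hg, rfl⟩ ⟨h, hh, rfl⟩
  exact ⟨h * g, mul_mem hh hg, by group⟩

omit X hq in
theorem Cj.sq {x y : GL chevE6.Idx K} (h : Cj q x y) (hx : x * x = 1) : y * y = 1 := by
  obtain ⟨g, -, rfl⟩ := h
  rw [show g * x * g⁻¹ * (g * x * g⁻¹) = g * (x * x) * g⁻¹ by group, hx, mul_one, mul_inv_cancel]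

omit X hq in
theorem Cj.ne {x y : GL chevE6.Idx K} (h : Cj q x y) (hx : x ≠ 1) : y ≠ 1 := by
  obtain ⟨g, -, rfl⟩ := h
  exact fun e => hx (by rw [mul_inv_eq_one] at e; exact mul_eq_left.1 e)

theorem sq_coord {e : ℕ → K} (he : Fixed q false e) {st k : ℕ} {c : List Poly} (h : Sem st e)
    (h2 : WE q e * WE q e = 1) (hc : sq st = some c) (hk : k < 36) :
    pev (vv q e) (c.getD k []) = 0 := by
  have e1 := wev_nf (vv q e) E6.sys hC6 E6.tbl_ok hc
  rw [wev_append, wev_stW X hq he h] at e1
  have e2 : Po E6.sys hC6 (fun _ => (0 : K)) =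
      Po E6.sys hC6 fun i => pev (vv q e) (c.getD i []) :=
    ((one_eq_Po E6.sys hC6 E6.tbl_ok).symm.trans h2.symm).trans e1
  exact (Po_inj E6.sys hC6 E6.tbl_ok e2 (i := k) hk).symm

theorem pev_live {e : ℕ → K} {st : ℕ} (h : Sem st e) (p : Poly) :
    pev (vv q e) (live st p) = pev (vv q e) p := by
  rw [split_filter' (vv q e) (fun m => m.all fun x => !(Nat.blt (x / 2) 24 && Nat.beq (fl st (x / 2)) 0)) p,
    live, eq_comm, add_eq_right]
  refine List.sum_eq_zero fun z hz => ?_
  obtain ⟨m, hm, rfl⟩ := List.mem_map.1 hz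
  rw [List.mem_filter, Bool.not_eq_true', List.all_eq_false] at hm
  obtain ⟨x, hx, hx'⟩ := hm.2
  have hx'' : x / 2 < 24 ∧ fl st (x / 2) = 0 := by
    cases h4 : (Nat.blt (x / 2) 24 && Nat.beq (fl st (x / 2)) 0)
    · exact absurd (by simp [h4]) hx'
    · simpa only [Bool.and_eq_true, Nat.blt_eq, Nat.beq_eq] using h4
  rw [mev, List.prod_eq_zero_iff, List.mem_map]
  refine ⟨x, hx, ?_⟩
  rw [vv, (h _ hx''.1).1 hx''.2, zero_pow (q_pos X).ne', ite_self]

theorem ded_sound {e : ℕ → K} (he : Fixed q false e) {st0 st : ℕ} {ku : ℕ × ℕ} (h0 : Sem st0 e)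
    (h : Sem st e) (h2 : WE q e * WE q e = 1) (hchk : dedChk (sq st0) st ku = true) :
    Sem (setFl st ku.2 0) e := by
  simp only [dedChk, Bool.and_eq_true, Nat.blt_eq] at hchk
  obtain ⟨⟨hk, -⟩, hm⟩ := hchk
  split at hm
  · next c hc =>
    split at hm
    · next m hp =>
      refine h.set_zero ?_
      have e1 := sq_coord X hq he h0 h2 hc hk
      rw [← pev_live X hq h, hp] at e1
      simp only [pev, List.map_cons, List.map_nil, List.sum_cons, List.sum_nil, add_zero, mev,
        List.prod_eq_zero_iff, List.mem_map] at e1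
      obtain ⟨x, hx, hx0⟩ := e1
      have := List.all_eq_true.1 hm x hx
      simp only [Bool.or_eq_true, Bool.and_eq_true, Nat.beq_eq, Nat.blt_eq] at this
      by_contra hne
      rcases this with e2 | ⟨hxN, hx1⟩
      · exact vv_ne (e2 ▸ hne) hx0
      · exact vv_ne ((h _ hxN).2 hx1) hx0
    · simp at hm
  · simp at hm

theorem deds_sound {e : ℕ → K} (he : Fixed q false e) {st0 : ℕ} (h0 : Sem st0 e)
    (h2 : WE q e * WE q e = 1) : ∀ {l : List (ℕ × ℕ)} {st st' : ℕ}, Sem st e →
      dedsChk (sq st0) st l = some st' → Sem st' e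
  | [], st, st', h, e1 => by simp only [dedsChk, Option.some.injEq] at e1; exact e1 ▸ h
  | ku :: l, st, st', h, e1 => by
    rw [dedsChk] at e1
    split at e1
    · next hd => exact deds_sound he h0 h2 (ded_sound X hq he h0 h h2 hd) e1
    · simp at e1

/-- Every fixed element is a trace. -/
theorem exists_trace {c : K} (hc : c ^ q = c) : ∃ z : K, z + z ^ q = c := by
  classical
  obtain ⟨θ, hθ⟩ := Twist.E6.exists_powq hq two_ne_zero hK
  obtain ⟨f, hf⟩ : ∃ f : K →+ K, f = AddMonoidHom.id K + θ.toAddMonoidHom := ⟨_, rfl⟩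
  have hfz : ∀ z, f z = z + z ^ q := fun z => by rw [hf]; simp [hθ]
  have hker : Nat.card f.ker = q := by
    refine (Nat.card_congr (Equiv.subtypeEquivRight fun z => ?_)).trans
      (Twist.card_powfix hq.two_le hK)
    rw [AddMonoidHom.mem_ker, hfz, _root_.CharTwo.add_eq_zero, eq_comm]
  have hle : (f.range : Set K) ⊆ {t : K | t ^ q = t} := by
    rintro _ ⟨z, rfl⟩
    show f z ^ q = f z
    rw [hfz, frob_add X hq, qq X, add_comm]
  have hrange : Nat.card f.range = q := by
    have hrK : Nat.card K = Fintype.card K := Nat.card_eq_fintype_card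
    have h1 := AddSubgroup.card_mul_index f.ker
    rw [AddSubgroup.index_ker, hker, hrK, hK, pow_two] at h1
    exact Nat.eq_of_mul_eq_mul_left hq.pos h1
  have heq : (f.range : Set K) = {t : K | t ^ q = t} := by
    refine Set.eq_of_subset_of_ncard_le hle ?_ (Set.toFinite _)
    rw [← Nat.card_coe_set_eq, ← Nat.card_coe_set_eq]
    exact le_of_eq ((Twist.card_powfix hq.two_le hK).trans hrange.symm)
  have : c ∈ (f.range : Set K) := heq ▸ hc
  obtain ⟨z, hz⟩ := this
  exact ⟨z, (hfz z).symm.trans hz⟩

theorem exists_param {e : ℕ → K} (he : Fixed q false e) (hz : e 24 = 0) {st0 st k s : ℕ}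
    {P : List Poly} {kind : Kind} (h0 : Sem st0 e) (h : Sem st e) (h2 : WE q e * WE q e = 1)
    (hk : k < 24) (hP : okP (fx false s) P = true)
    (hkind : kindChk st (sq st0) k s (P.getD k []) kind = true) :
    ∃ t : K, Fixed q (fx false s) (Function.update e 24 t) ∧
      pev (vv q (Function.update e 24 t)) (P.getD k []) = 0 := by
  classical
  obtain ⟨p, hp⟩ : ∃ p, p = P.getD k [] := ⟨_, rfl⟩
  rw [← hp] at hkind ⊢
  have hFix : ∀ t : K, (fx false s = true → t ^ q = t) →
      Fixed q (fx false s) (Function.update e 24 t) := by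
    intro t ht j hj
    by_cases hj24 : j = 24
    · subst hj24; rw [fx_param] at hj; simp [ht hj]
    · rw [Function.update_of_ne hj24]
      refine he j ?_
      unfold fx at hj ⊢
      cases hb : Nat.blt j 24
      · rw [hb, cond_false, InvolCert.nbeq_eq_false hj24] at hj
        rw [cond_false, InvolCert.nbeq_eq_false hj24]
        exact hj
      · rw [hb, cond_true] at hj
        rw [cond_true]
        exact hj
  have hvv : ∀ (t : K) {x : ℕ}, x / 2 ≠ 24 → vv q (Function.update e 24 t) x = vv q e x := by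
    intro t x hx; simp [vv, Function.update_of_ne hx]
  obtain ⟨B, hB⟩ : ∃ B, B = pev (vv q e) (p.filter fun m => !isT m) := ⟨_, rfl⟩
  have hpB : ∀ t : K, pev (vv q (Function.update e 24 t)) p =
      B + pev (vv q (Function.update e 24 t)) (p.filter isT) := by
    intro t
    rw [split_filter' _ isT p, hB]
    congr 1
    refine congrArg List.sum (List.map_congr_left fun m hm => ?_)
    refine congrArg List.prod (List.map_congr_left fun x hx => hvv t ?_)
    rw [List.mem_filter, Bool.not_eq_true', isT, List.any_eq_false] at hm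
    exact fun e1 => hm.2 x hx (by simp [e1])
  have hm : ∀ (t : K) (m : List ℕ), mev (vv q (Function.update e 24 t)) m =
      mev (vv q e) (qM m) * mev (vv q (Function.update e 24 t)) (tM m) := by
    intro t m
    rw [split_mev _ (fun x => Nat.beq (x / 2) 24) m, qM, tM]
    congr 1
    refine congrArg List.prod (List.map_congr_left fun x hx => hvv t ?_)
    rw [List.mem_filter, Bool.not_eq_true'] at hx
    exact fun e1 => by simp [e1] at hx
  have hv48 : ∀ t : K, vv q (Function.update e 24 t) 48 = t ∧
      vv q (Function.update e 24 t) 49 = t ^ q := fun t => by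
    constructor <;> simp [vv]
  have hpk : ∀ t : K, Fixed q (fx false s) (Function.update e 24 t) → fx false k = true →
      pev (vv q (Function.update e 24 t)) p ^ q = pev (vv q (Function.update e 24 t)) p :=
    fun t ht hkf => hp ▸ okP_fixed X hq ht hP hk ((fx_iff hk).1 hkf)
  have hFix0 := hFix 0 fun _ => zero_pow (q_pos X).ne'
  cases kind with
  | one =>
    simp only [kindChk] at hkind
    split at hkind
    · next m hmT =>
      simp only [Bool.and_eq_true, Bool.or_eq_true, Nat.beq_eq] at hkind
      obtain ⟨⟨hqm, hn⟩, hc⟩ := hkind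
      obtain ⟨n, hnd⟩ : ∃ n, n = (tM m).length := ⟨_, rfl⟩
      rw [← hnd] at hn
      obtain ⟨A, hA⟩ : ∃ A, A = mev (vv q e) (qM m) := ⟨_, rfl⟩
      have hA0 : A ≠ 0 := hA ▸ allNZ_ne h hqm
      obtain ⟨t0, ht0⟩ : ∃ t0, t0 ^ n = B / A := by
        rcases hn with hn | hn
        · exact ⟨B / A, by rw [hn, pow_one]⟩
        · obtain ⟨r, hr⟩ := FiniteField.isSquare_of_char_two (ringChar.eq K 2) (B / A)
          exact ⟨r, by rw [hn, pow_two]; exact hr.symm⟩
      have hn0 : n ≠ 0 := by omega
      have hzero : ∀ t, mev (vv q (Function.update e 24 t)) (tM m) = t0 ^ n →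
          pev (vv q (Function.update e 24 t)) p = 0 := fun t ht => by
        rw [hpB, hmT]
        simp only [pev, List.map_cons, List.map_nil, List.sum_cons, List.sum_nil, add_zero]
        rw [hm, ← hA, ht, ht0, mul_div_cancel₀ _ hA0, _root_.CharTwo.add_self_eq_zero]
      rcases Bool.eq_false_or_eq_true (fx false s) with hsf | hsf
      rotate_left
      · rw [hsf, cond_false] at hc
        simp only [Bool.and_eq_true, Bool.or_eq_true] at hc
        rcases hc.2 with h48 | h49
        · exact ⟨t0, hFix t0 (fun e1 => by simp [hsf] at e1),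
            hzero t0 (by rw [mev_all h48, (hv48 t0).1, hnd])⟩
        · exact ⟨t0 ^ q, hFix _ (fun e1 => by simp [hsf] at e1),
            hzero _ (by rw [mev_all h49, (hv48 _).2, qq X, hnd])⟩
      · rw [hsf, cond_true] at hc
        simp only [Bool.and_eq_true] at hc
        obtain ⟨h48, hkf⟩ := hc
        have hBq : B ^ q = B := by
          have h1 := hpk 0 hFix0 hkf
          rwa [hpB, hmT, show pev (vv q (Function.update e 24 (0 : K))) [m] = 0 by
            simp only [pev, List.map_cons, List.map_nil, List.sum_cons, List.sum_nil, add_zero]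
            rw [hm, mev_all h48, (hv48 0).1, ← hnd, zero_pow hn0, mul_zero], add_zero] at h1
        have hAq : A ^ q = A := by
          have h1 := hpk 1 (hFix 1 fun _ => one_pow q) hkf
          rw [hpB, hmT, show pev (vv q (Function.update e 24 (1 : K))) [m] = A by
            simp only [pev, List.map_cons, List.map_nil, List.sum_cons, List.sum_nil, add_zero]
            rw [hm, mev_all h48, (hv48 1).1, one_pow, mul_one, hA], frob_add X hq, hBq] at h1
          exact add_left_cancel h1
        have ht : t0 ^ q = t0 := by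
          have h1 : (t0 ^ q) ^ n = t0 ^ n := by rw [← pow_mul, mul_comm, pow_mul, ht0, div_pow, hBq, hAq]
          rcases hn with hn | hn
          · rwa [hn, pow_one, pow_one] at h1
          · rw [hn, pow_two, pow_two, ← _root_.CharTwo.add_eq_zero] at h1
            have h2 : (t0 ^ q + t0) * (t0 ^ q + t0) = 0 := by
              rw [← h1]; ring_nf; rw [_root_.CharTwo.two_eq_zero]; ring
            exact _root_.CharTwo.add_eq_zero.1 (mul_self_eq_zero.1 h2)
        exact ⟨t0, hFix t0 fun _ => ht, hzero t0 (by rw [mev_all h48, (hv48 t0).1, hnd])⟩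
    · simp at hkind
  | trace =>
    simp only [kindChk] at hkind
    split at hkind
    · next m m' hmT =>
      simp only [Bool.and_eq_true, Bool.not_eq_true'] at hkind
      obtain ⟨⟨⟨⟨hqm, htm⟩, hkf⟩, hsf⟩, hm'⟩ := hkind
      obtain ⟨A, hA⟩ : ∃ A, A = mev (vv q e) (qM m) := ⟨_, rfl⟩
      have hA0 : A ≠ 0 := hA ▸ allNZ_ne h hqm
      have hval : ∀ t, pev (vv q (Function.update e 24 t)) p = B + (A * t + (A * t) ^ q) := by
        intro t
        have hFt : Fixed q false (Function.update e 24 t) :=
          hsf ▸ hFix t (fun e1 => by simp [hsf] at e1)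
        rw [hpB, hmT, ← eqM_spec hm']
        simp only [pev, List.map_cons, List.map_nil, List.sum_cons, List.sum_nil, add_zero]
        rw [mev_cM X hq hFt, hm, ← hA, eqM_spec htm]
        simp [mev, (hv48 t).1]
      have hBq : B ^ q = B := by
        have h1 := hpk 0 hFix0 hkf
        rwa [hval, mul_zero, zero_pow (q_pos X).ne', add_zero, add_zero] at h1
      obtain ⟨z, hz'⟩ := exists_trace X hq hBq
      refine ⟨z / A, hFix _ (fun e1 => by simp [hsf] at e1), ?_⟩
      rw [hval, mul_div_cancel₀ _ hA0, hz', _root_.CharTwo.add_self_eq_zero]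
    · simp at hkind
  | ratio k' =>
    simp only [kindChk] at hkind
    split at hkind
    · next m b c hmT hbT hc =>
      simp only [Bool.and_eq_true, Nat.blt_eq] at hkind
      obtain ⟨⟨⟨⟨⟨hqm, hb⟩, htm⟩, hsf⟩, hk'⟩, hμ⟩ := hkind
      obtain ⟨A, hA⟩ : ∃ A, A = mev (vv q e) (qM m) := ⟨_, rfl⟩
      obtain ⟨b', hb'⟩ : ∃ b', b' = mev (vv q e) b := ⟨_, rfl⟩
      have hA0 : A ≠ 0 := hA ▸ allNZ_ne h hqm
      have hBb : B = b' := by rw [hB, hbT, hb']; simp [pev]
      have e1 := sq_coord X hq he h0 h2 hc hk'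
      rw [← pev_live X hq h, eqP_spec hμ] at e1
      simp only [pev, List.map_cons, List.map_nil, List.sum_cons, List.sum_nil, add_zero] at e1
      rw [mev_cM X hq he, mev_mulM, mev_cM X hq he, ← hA, ← hb', mul_pow, qq X,
        _root_.CharTwo.add_eq_zero] at e1
      refine ⟨b' / A, hFix _ fun _ => ?_, ?_⟩
      · rw [div_pow, div_eq_div_iff (pow_ne_zero q hA0) hA0]
        linear_combination e1
      · rw [hpB, hmT, hBb]
        simp only [pev, List.map_cons, List.map_nil, List.sum_cons, List.sum_nil, add_zero]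
        rw [hm, ← hA, eqM_spec htm, show mev (vv q (Function.update e 24 (b' / A))) [48] = b' / A by
          simp [mev, (hv48 _).1], mul_div_cancel₀ _ hA0, _root_.CharTwo.add_self_eq_zero]
    · simp at hkind

theorem child_sem {e e' : ℕ → K} {st k child : ℕ} {P : List Poly} (h : Sem st e)
    (hv : ∀ x, x / 2 < 24 → vv q e' x = vv q e x)
    (hfl : flagsOK st k P child = true)
    (hk : k < 24 → pev (vv q e') (P.getD k []) = 0) : Sem child (chi q e' P) := by
  intro j hj
  have hj' := List.all_eq_true.1 hfl j (List.mem_range'_1.2 ⟨Nat.zero_le _, by omega⟩)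
  unfold childFl at hj'
  rw [chi, if_pos hj]
  refine ⟨fun h0 => ?_, fun h1 => ?_⟩
  · rw [h0, if_pos (by rfl)] at hj'
    simp only [Bool.or_eq_true, Nat.beq_eq, List.isEmpty_iff] at hj'
    rcases hj' with rfl | hj'
    · exact hk hj
    · rw [hj']; rfl
  · rw [h1, if_neg (by simp), if_pos (by rfl)] at hj'
    split at hj'
    · next m hm =>
      simp only [Bool.and_eq_true] at hj'
      rw [hm]
      simp only [pev, List.map_cons, List.map_nil, List.sum_cons, List.sum_nil, add_zero]
      have e1 : mev (vv q e') m = mev (vv q e) m := by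
        refine congrArg List.prod (List.map_congr_left fun x hx => hv x ?_)
        have := List.all_eq_true.1 hj'.2 x hx
        simp only [Bool.and_eq_true, Nat.blt_eq] at this
        exact this.1
      rw [e1]
      exact allNZ_ne h hj'.2
    · simp at hj'

end Cfsg.Agent.Chevalley.InvolCert.TwE6
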