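import Cfsg.Agent.Lib.Chevalley.InvolCert.TwE6.Node

/-! The torus steps and the soundness of a certificate of the twisted groups of type E6. -/

set_option autoImplicit false
set_option linter.unusedSectionVars false
set_option maxRecDepth 100000

namespace Cfsg.Agent.Chevalley.InvolCert.TwE6

open Cfsg.Lie Cfsg.Agent.Chevalley Cfsg.Agent.Chevalley.Table Cfsg.Agent.Chevalley.Cert
  Cfsg.Agent.Chevalley.Group Cfsg.Agent.Chevalley.Unip Cfsg.Agent.Chevalley.Borel
  Cfsg.Agent.Chevalley.Weyl

variable {K : Type*} [Field K] [CharP K 2]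

/-- The indicator of a set of orbits. -/
def ind (S : List ℕ) (j : ℕ) : K := if j ∈ S ∧ j < 24 then 1 else 0

theorem mem_supp {st j : ℕ} : j ∈ supp st ↔ j < 24 ∧ fl st j ≠ 0 := by
  simp only [supp, List.mem_filter, List.mem_range'_1, Bool.not_eq_true']
  constructor
  · rintro ⟨⟨-, h1⟩, h2⟩
    exact ⟨by omega, fun h => by simp [h] at h2⟩
  · rintro ⟨h1, h2⟩
    exact ⟨⟨Nat.zero_le _, by omega⟩, InvolCert.nbeq_eq_false h2⟩

variable [Fintype K] {q : ℕ} {hK : Fintype.card K = q ^ 2} (X : Twist.E6.Setup (K := K) hK)
  (hq : IsPrimePow q)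
include X hq

theorem oe_conj_tor {c : ℕ → Kˣ} {j : ℕ} (hj : j < 24) (t : K) {x : K}
    (h1 : (torChar chevE6 c (36 + fst' j) : K) = x)
    (h2 : fst' j ≠ snd' j → (torChar chevE6 c (36 + snd' j) : K) = x ^ q) :
    tor chevE6 c * oe q j t * (tor chevE6 c)⁻¹ = oe q j (x * t) := by
  obtain ⟨hf, hs, -⟩ := orb_ok j hj
  have hn : chevE6.nroots = 72 := by decide +kernel
  unfold oe
  by_cases e : fst' j = snd' j
  · rw [show Nat.beq (fst' j) (snd' j) = true by simp [e], cond_true, cond_true,
      tor_conj_x Types.E6.certified _ _ _ (by omega), h1]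
  · rw [InvolCert.nbeq_eq_false e, cond_false, cond_false, mul_pow, ← h2 e, ← h1,
      ← tor_conj_x Types.E6.certified _ _ _ (by omega),
      ← tor_conj_x Types.E6.certified _ _ _ (by omega)]
    group

theorem torChar_zpow (z w : Kˣ) (a b : ℕ → ℤ) {r : ℕ} (hr : r < 36) :
    torChar chevE6 (fun i => z ^ a i * w ^ b i) (36 + r) =
      z ^ ((List.range 6).map fun i => a i * (E6.sys.car.getD i []).getD r 0).sum *
        w ^ ((List.range 6).map fun i => b i * (E6.sys.car.getD i []).getD r 0).sum := by
  rw [torChar, ← zpow_sum_range, ← zpow_sum_range, ← Finset.prod_mul_distrib]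
  refine Finset.prod_congr rfl fun i hi => ?_
  have hi' : i < 6 := Finset.mem_range.1 hi
  rw [car_eq E6.sys hC6 E6.tbl_ok (i := i) hi' (r := r) hr, mul_zpow, ← zpow_mul, ← zpow_mul]
  rfl

theorem exists_root_fixed {sf : Bool} (z : Kˣ) (hz : sf = true → z ^ q = z) (ex : ℕ) :
    ∃ s : Kˣ, s ^ (2 ^ ex) = z ∧ (sf = true → s ^ q = s) := by
  obtain ⟨s, hs⟩ := exists_root2 E6.sys hC6 E6.tbl_ok ex z
  refine ⟨s, hs, fun h => ?_⟩
  have h1 : ((s ^ q : Kˣ) : K) ^ (2 ^ ex) = (s : K) ^ (2 ^ ex) := by
    rw [← Units.val_pow_eq_pow_val, ← Units.val_pow_eq_pow_val, ← pow_mul, mul_comm, pow_mul, hs,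
      hz h]
  haveI : Fact (Nat.Prime 2) := ⟨Nat.prime_two⟩
  exact Units.ext ((iterateFrobenius_inj K 2 ex) (by simpa [iterateFrobenius_def] using h1))

/-- The torus makes the coordinate of one orbit one. -/
theorem tor_step {S : List ℕ} {a ex : ℕ} {l : List ℤ} (ha : a < 24) (hS : ∀ b ∈ S, b < 24)
    (h : torStep S a ex l = true) {e : ℕ → K} (he : Fixed q false e) (hne : e a ≠ 0)
    (hout : ∀ j < 24, j ∉ S → e j = 0) :
    Cj q (WE q e) (WE q (Function.update e a 1)) := by
  classical
  obtain ⟨z, hz, hzq⟩ := exists_root_fixed X hq (sf := fx false a) (Units.mk0 (e a) hne)⁻¹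
    (fun hf => Units.ext (by simp [inv_pow, he a hf])) ex
  have hval : (z : K) ^ (2 ^ ex) * e a = 1 := by
    rw [← Units.val_pow_eq_pow_val, hz, Units.val_inv_eq_inv_val, Units.val_mk0, inv_mul_cancel₀ hne]
  obtain ⟨w, hw⟩ : ∃ w, w = z ^ q := ⟨_, rfl⟩
  have hqqz : w ^ q = z := by rw [hw]; exact Units.ext (by simpa using qq X (z : K))
  have hzpow : ∀ (n : ℤ), (z ^ n) ^ q = w ^ n := fun n => by
    rw [hw, ← zpow_natCast (z ^ n) q, ← zpow_natCast z q, ← zpow_mul, ← zpow_mul, mul_comm]
  have hwpow : ∀ (n : ℤ), (w ^ n) ^ q = z ^ n := fun n => by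
    rw [← hqqz, ← zpow_natCast (w ^ n) q, ← zpow_natCast w q, ← zpow_mul, ← zpow_mul, mul_comm]
  obtain ⟨c, hc, hfix, hch⟩ : ∃ c : ℕ → Kˣ, (∀ b ∈ S, ∀ r, (r = fst' b ∨ r = snd' b) → r < 36 →
      torChar chevE6 c (36 + r) = if b = a then (if r = fst' b then z else w) ^ (2 ^ ex) else 1) ∧
      (∀ i < 6, (c (piS i) : K) = (c i : K) ^ q) ∧ True := by
    have hpi : ∀ i < 6, piS (piS i) = i := by decide
    unfold torStep at h
    rcases Bool.eq_false_or_eq_true (fx false a) with hf | hf
    · rw [hf, cond_true] at h
      simp only [Bool.and_eq_true, List.all_eq_true, List.mem_range, beq_iff_eq] at h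
      obtain ⟨hsym, hch⟩ := h
      have hwz : w = z := hw ▸ hzq hf
      refine ⟨fun i => z ^ l.getD i 0 * w ^ (0 : ℤ), fun b hb r hr hr36 => ?_, fun i hi => ?_, trivial⟩
      · rw [torChar_zpow X hq _ _ _ _ hr36]
        have h0 : ((List.range 6).map fun i => (0 : ℤ) * (E6.sys.car.getD i []).getD r 0).sum = 0 := by
          simp
        rw [h0, zpow_zero, mul_one]
        show z ^ dot l r = _
        have hd : dot l r = if b = a then (2 : ℤ) ^ ex else 0 := by
          rcases hr with rfl | rfl
          exacts [(hch b hb).1, (hch b hb).2]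
        rw [hd, hwz, ite_self]
        split
        · exact_mod_cast zpow_natCast z (2 ^ ex)
        · exact zpow_zero z
      · simp only [zpow_zero, mul_one]
        rw [hsym i hi, ← Units.val_pow_eq_pow_val, hzpow, hwz]
    · rw [hf, cond_false] at h
      simp only [Bool.and_eq_true, List.all_eq_true, beq_iff_eq] at h
      refine ⟨fun i => z ^ l.getD i 0 * w ^ l.getD (piS i) 0, fun b hb r hr hr36 => ?_,
        fun i hi => ?_, trivial⟩
      · obtain ⟨⟨⟨h1, h2⟩, h3⟩, h4⟩ := h b hb
        rw [torChar_zpow X hq _ _ _ _ hr36]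
        show z ^ dot l r * w ^ dot' l r = _
        have hab : ∀ hb' : b = a, fst' b ≠ snd' b := fun hb' => by
          intro e; rw [hb'] at e
          rw [(fx_iff ha).2 e] at hf; simp at hf
        by_cases hr1 : r = fst' b
        · subst hr1
          rw [h1, h2, zpow_zero, mul_one]
          split
          · next hba => simp only [if_pos]; exact_mod_cast zpow_natCast z (2 ^ ex)
          · exact zpow_zero z
        · have hr2 : r = snd' b := hr.resolve_left hr1
          rw [if_neg hr1]
          subst hr2
          rw [h3, h4, zpow_zero, one_mul]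
          split
          · exact_mod_cast zpow_natCast w (2 ^ ex)
          · exact zpow_zero w
      · simp only [hpi i hi]
        rw [← Units.val_pow_eq_pow_val, mul_pow, hzpow, hwpow, mul_comm]
  refine ⟨tor chevE6 c, tor_mem X hfix, ?_⟩
  rw [WE, WE]
  have key : ∀ L : List ℕ, (∀ j ∈ L, j < 24) →
      tor chevE6 c * (L.map fun j => oe q j (e j)).prod * (tor chevE6 c)⁻¹ =
        (L.map fun j => oe q j (Function.update e a 1 j)).prod := by
    intro L
    induction L with
    | nil => intro _; simp
    | cons j L ih =>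
      intro hL
      have hj := hL j List.mem_cons_self
      rw [List.map_cons, List.map_cons, List.prod_cons, List.prod_cons,
        ← ih fun i hi => hL i (List.mem_cons_of_mem _ hi)]
      have e1 : tor chevE6 c * oe q j (e j) * (tor chevE6 c)⁻¹ = oe q j (Function.update e a 1 j) := by
        obtain ⟨hf1, hs1, -⟩ := orb_ok j hj
        by_cases hjS : j ∈ S
        · have c1 := hc j hjS (fst' j) (Or.inl rfl) hf1
          have c2 := hc j hjS (snd' j) (Or.inr rfl) hs1
          by_cases hja : j = a
          · subst hja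
            rw [if_pos rfl] at c1 c2
            rw [oe_conj_tor X hq hj (e j) (x := (z : K) ^ (2 ^ ex))
              (by rw [c1]; simp) (fun hne' => by
                rw [c2, if_neg (Ne.symm hne'), hw, Units.val_pow_eq_pow_val, Units.val_pow_eq_pow_val,
                  ← pow_mul, ← pow_mul, mul_comm]), hval, Function.update_self]
          · rw [if_neg hja] at c1 c2
            rw [oe_conj_tor X hq hj (e j) (x := 1) (by rw [c1]; simp)
              (fun _ => by rw [c2]; simp), one_mul, Function.update_of_ne hja]
        · have hja : j ≠ a → Function.update e a 1 j = e j := fun h => Function.update_of_ne h _ _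
          have hz0 : ∀ t : ℕ → K, t j = 0 → oe q j (t j) = 1 := fun t ht => by
            rw [ht]
            unfold oe
            cases Nat.beq (fst' j) (snd' j)
            · simp [zero_pow (q_pos X).ne', xg_zero Types.E6.certified]
            · simp [xg_zero Types.E6.certified]
          have hne' : j ≠ a := fun hh => hne (hh ▸ hout j hj hjS)
          rw [hja hne', hz0 e (hout j hj hjS), mul_one, mul_inv_cancel]
      rw [← e1]
      group
  exact key _ fun j hj => by simp [List.mem_range'_1] at hj; omega

theorem tor_all {S : List ℕ} {E : List (ℕ × List ℤ)} (hS : ∀ b ∈ S, b < 24)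
    (h : torChk S E = true) : ∀ n ≤ S.length, ∀ e : ℕ → K, Fixed q false e → (∀ b ∈ S, e b ≠ 0) →
      (∀ j < 24, j ∉ S → e j = 0) →
      ∃ e' : ℕ → K, Cj q (WE q e) (WE q e') ∧ Fixed q false e' ∧ (∀ b ∈ S, e' b ≠ 0) ∧
        (∀ j < 24, j ∉ S → e' j = 0) ∧ ∀ m < n, e' (S.getD m 0) = 1 := by
  classical
  intro n
  induction n with
  | zero =>
    intro _ e he hne hout
    exact ⟨e, ⟨1, one_mem _, by group⟩, he, hne, hout, fun m hm => absurd hm (Nat.not_lt_zero m)⟩
  | succ n ih =>
    intro hn e he hne hout
    obtain ⟨e', hc, he', hne', hout', hone⟩ := ih (by omega) e he hne hout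
    have hmem : S.getD n 0 ∈ S := by
      rw [List.getD_eq_getElem _ _ (by omega)]; exact List.getElem_mem _
    refine ⟨Function.update e' (S.getD n 0) 1, hc.trans (tor_step X hq (hS _ hmem) hS
      (List.all_eq_true.1 h n (List.mem_range.2 (by omega))) he' (hne' _ hmem) hout'),
      fun j hj => ?_, fun b hb => ?_, fun j hj hjS => ?_, fun m hm => ?_⟩
    · by_cases hja : j = S.getD n 0
      · rw [hja, Function.update_self, one_pow]
      · rw [Function.update_of_ne hja]; exact he' j hj
    · by_cases hba : b = S.getD n 0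
      · rw [hba, Function.update_self]; exact one_ne_zero
      · rw [Function.update_of_ne hba]; exact hne' b hb
    · rw [Function.update_of_ne (fun hh => hjS (by rw [hh]; exact hmem))]; exact hout' j hj hjS
    · by_cases hma : S.getD m 0 = S.getD n 0
      · rw [hma, Function.update_self]
      · rw [Function.update_of_ne hma]
        exact hone m (lt_of_le_of_ne (Nat.lt_succ_iff.1 hm) fun hh => hma (by rw [hh]))

theorem cj_map {ws : List ℕ} {w : Word} {sf : Bool} {P : List Poly} {e : ℕ → K}
    (he : Fixed q sf e) (h : mapChk ws w sf P = true) :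
    Cj q (wev (vv q e) E6.sys hC6 w) (WE q fun j => pev (vv q e) (P.getD j [])) ∧
      okP sf P = true := by
  simp only [mapChk, Bool.and_eq_true, List.all_eq_true, Nat.blt_eq] at h
  obtain ⟨hws, h⟩ := h
  split at h
  · next w' hw =>
    simp only [Bool.and_eq_true] at h
    refine ⟨⟨nL hC6 K (wsL ws), nL_mem X hws, ?_⟩, h.1⟩
    obtain ⟨w0, hw0⟩ : ∃ w0, w0 = norm w := ⟨_, rfl⟩
    have e1 := same_spec (vv q e) E6.sys hC6 E6.tbl_ok h.2
    rw [wev_W X hq he] at e1
    rw [← hw0] at hw
    rw [← wev_norm (vv q e) E6.sys hC6 w, ← hw0, ← e1]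
    clear e1 h hw0
    have hL := wsL_lt X (ws := ws)
    unfold mapP at hw
    split at hw
    · next hcnd =>
      rw [Option.some.injEq] at hw
      subst hw
      simp only [Bool.and_eq_true, List.all_eq_true, Nat.blt_eq, Nat.ble_eq] at hcnd
      obtain ⟨-, hpos⟩ := hcnd
      induction w0 with
      | nil => exact mul_inv_eq_one.2 (mul_one _)
      | cons x w0 ih =>
        obtain ⟨p1, p2⟩ := hpos x List.mem_cons_self
        rw [← (rk_eq E6.sys hC6 E6.tbl_ok).2] at p2
        rw [List.map_cons, wev_cons, wev_cons, ← ih fun y hy => hpos y (List.mem_cons_of_mem x hy)]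
        have e2 : xo E6.sys hC6 (refW E6.sys (wsL ws) (E6.sys.base + x.1) - E6.sys.base)
            (pev (vv q e) x.2) = nL hC6 K (wsL ws) *
            xo E6.sys hC6 x.1 (pev (vv q e) x.2) * (nL hC6 K (wsL ws))⁻¹ := by
          show xg _ (E6.sys.base + _) _ = _
          rw [show E6.sys.base + (refW E6.sys (wsL ws) (E6.sys.base + x.1) - E6.sys.base) =
            refW E6.sys (wsL ws) (E6.sys.base + x.1) by omega,
            refW_eq E6.sys hC6 E6.tbl_ok hL p2]
          exact (Twist.CharTwo.nL_conj hL p2 _).symm
        rw [e2]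
        exact conj_mul.symm
    · simp at hw
  · simp at h

theorem indP_val {e : ℕ → K} {S : List ℕ} {j : ℕ} (hj : j < 24) :
    pev (vv q e) ((indP S).getD j []) = ind S j := by
  rw [indP, List.getD_eq_getElem _ _ (by simpa using hj), List.getElem_map, List.getElem_range',
    ind]
  simp only [zero_add, one_mul]
  by_cases hS : j ∈ S
  · rw [show S.contains j = true by simpa using hS, cond_true, if_pos ⟨hS, hj⟩]; simp [pev, mev]
  · rw [show S.contains j = false by simpa using hS, cond_false, if_neg (fun h => hS h.1)]; rfl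

/-- The element of a set of orbits. -/
noncomputable def rep (q : ℕ) (S : List ℕ) : GL chevE6.Idx K := WE q (ind S)

theorem WE_indP (e : ℕ → K) (S : List ℕ) :
    (WE q fun j => pev (vv q e) ((indP S).getD j [])) = rep q S :=
  congrArg List.prod (List.map_congr_left fun j hj => by
    dsimp only
    rw [indP_val X hq (by simp [List.mem_range'_1] at hj; omega)])

theorem zero_fixed (sf : Bool) : Fixed q sf (fun _ => (0 : K)) :=
  fun _ _ => zero_pow (q_pos X).ne'

theorem wev_rep (S : List ℕ) :
    wev (vv q fun _ => (0 : K)) E6.sys hC6 (W false (indP S)) = rep q S := by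
  rw [wev_W X hq (zero_fixed X hq _), WE_indP X hq]

theorem step_sound {S res : List ℕ} {st : Step} (h : stepChk S st = some res) :
    Cj q (rep (K := K) q S) (rep q res) := by
  have he0 := zero_fixed (K := K) X hq false
  cases st with
  | x s r =>
    simp only [stepChk] at h
    split at h
    · next hc =>
      simp only [Bool.and_eq_true, Nat.blt_eq] at hc
      rw [Option.some.injEq] at h
      subst h
      obtain ⟨hs, hsq, hsame⟩ := hc
      have e1 := same_spec (vv q fun _ => (0 : K)) E6.sys hC6 E6.tbl_ok hsame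
      have e2 := same_spec (vv q fun _ => (0 : K)) E6.sys hC6 E6.tbl_ok hsq
      rw [wev_append, wev_append, wev_el X hq he0, wev_rep X hq, wev_rep X hq] at e1
      rw [wev_append, wev_el X hq he0, wev_nil] at e2
      obtain ⟨g, hg⟩ : ∃ g, g = oe (K := K) q s (pev (vv q fun _ => (0 : K)) [[]]) := ⟨_, rfl⟩
      rw [← hg] at e1 e2
      refine ⟨g, hg ▸ oe_mem X hs (fun _ => by simp [pev, mev]), ?_⟩
      rw [show g⁻¹ = g from inv_eq_of_mul_eq_one_right e2]
      exact e1
    · simp at h
  | w ws r =>
    simp only [stepChk] at h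
    split at h
    · next hc =>
      rw [Option.some.injEq] at h
      subst h
      have := (cj_map X hq he0 hc).1
      rw [wev_rep X hq, WE_indP X hq] at this
      exact this
    · simp at h
  | tr s P r =>
    simp only [stepChk] at h
    split at h
    · next hc =>
      simp only [Bool.and_eq_true, Nat.blt_eq, List.all_eq_true, Bool.not_eq_true'] at hc
      rw [Option.some.injEq] at h
      subst h
      obtain ⟨⟨⟨⟨hs, hfs⟩, hP⟩, hsq, hsame⟩, hval⟩ := hc
      obtain ⟨t, ht⟩ := exists_trace X hq (c := (1 : K)) (one_pow q)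
      obtain ⟨e, he'⟩ : ∃ e, e = Function.update (fun _ => (0 : K)) 24 t := ⟨_, rfl⟩
      have he : Fixed q false e := fun j hj => by
        have hj24 : j ≠ 24 := fun h24 => by rw [h24, fx_param] at hj; simp at hj
        rw [he', Function.update_of_ne hj24]
        exact zero_pow (q_pos X).ne'
      have e1 := same_spec (vv q e) E6.sys hC6 E6.tbl_ok hsame
      have e2 := same_spec (vv q e) E6.sys hC6 E6.tbl_ok hsq
      rw [wev_append, wev_append, wev_el X hq he, wev_W X hq he, wev_W X hq he, WE_indP X hq] at e1
      rw [wev_append, wev_el X hq he, wev_nil] at e2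
      have hrhs : (WE q fun j => pev (vv q e) (P.getD j [])) = rep q r := by
        refine congrArg List.prod (List.map_congr_left fun j hj => congrArg (oe q j) ?_)
        have hj24 : j < 24 := by simp [List.mem_range'_1] at hj; omega
        have hv := hval j hj
        have h48 : pev (vv q e) [[48], [49]] = 1 := by simp [pev, mev, vv, he', ht]
        have h48' : pev (vv q e) [[], [48], [49]] = 0 := by
          simp [pev, mev, vv, he', ht, _root_.CharTwo.add_self_eq_zero]
        unfold ind
        show pev (vv q e) (P.getD j []) = _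
        by_cases hr : j ∈ r
        · rw [trVal, show r.contains j = true by simpa using hr, cond_true, Bool.or_eq_true] at hv
          rw [if_pos ⟨hr, hj24⟩]
          rcases hv with hv | hv
          · rw [eqP_spec hv]; simp [pev, mev]
          · rw [eqP_spec hv, h48]
        · rw [trVal, show r.contains j = false by simpa using hr, cond_false, Bool.or_eq_true] at hv
          rw [if_neg fun hh => hr hh.1]
          rcases hv with hv | hv
          · rw [List.isEmpty_iff.1 hv]; rfl
          · rw [eqP_spec hv, h48']
      rw [hrhs] at e1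
      obtain ⟨g, hg⟩ : ∃ g, g = oe (K := K) q s (pev (vv q e) [[48]]) := ⟨_, rfl⟩
      rw [← hg] at e1 e2
      refine ⟨g, hg ▸ oe_mem X hs (fun hh => ?_), ?_⟩
      · rw [(fx_iff hs).2 hh] at hfs; simp at hfs
      rw [show g⁻¹ = g from inv_eq_of_mul_eq_one_right e2]
      exact e1
    · simp at h

theorem chain_sound : ∀ {l : List Step} {S E : List ℕ}, chainChk S l E = true →
    Cj q (rep (K := K) q S) (rep q E)
  | [], S, E, h => by
    rw [chainChk, decide_eq_true_eq] at h
    subst h
    exact ⟨1, one_mem _, by group⟩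
  | st :: l, S, E, h => by
    rw [chainChk] at h
    split at h
    · next res hres => exact (step_sound X hq hres).trans (chain_sound h)
    · simp at h

/-- The involutions of the states of a correct certificate are conjugate to representatives. -/
theorem sound {reps : List (List ℕ)} {C : NTable} {n : ℕ}
    (hC' : ∀ i < n, nodeChk reps C i = true) : ∀ i < n, ∀ e : ℕ → K, Fixed q false e → e 24 = 0 →
    Sem (C.get i).st e → WE q e * WE q e = 1 → WE q e ≠ 1 →
    ∃ r ∈ reps, Cj q (WE q e) (rep q r) := by
  intro i
  induction i using Nat.strong_induction_on with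
  | _ i ih =>
    intro hi e he he24 hc h2 h1
    have h := hC' i hi
    unfold nodeChk at h
    split at h
    · simp at h
    next st hded =>
    have hst := deds_sound X hq he hc h2 hc hded
    split at h
    · next hact =>
      refine absurd ?_ h1
      rw [WE]
      refine List.prod_eq_one fun x hx => ?_
      obtain ⟨j, hj, rfl⟩ := List.mem_map.1 hx
      have hj24 : j < 24 := by simp [List.mem_range'_1] at hj; omega
      have h0 : fl st j = 0 := by
        by_contra hne
        have hm := mem_supp.2 ⟨hj24, hne⟩
        rw [List.isEmpty_iff.1 h] at hm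
        exact List.not_mem_nil hm
      rw [(hst j hj24).1 h0]
      unfold oe
      cases Nat.beq (fst' j) (snd' j)
      · simp [zero_pow (q_pos X).ne', xg_zero Types.E6.certified]
      · simp [xg_zero Types.E6.certified]
    · next u a b hact =>
      simp only [Bool.and_eq_true, Nat.blt_eq, Nat.beq_eq] at h
      obtain ⟨⟨⟨⟨-, ha⟩, hb⟩, ea⟩, eb⟩ := h
      by_cases hv : e u = 0
      · exact ih a ha (by omega) e he he24 (ea ▸ hst.set_zero hv) h2 h1
      · exact ih b hb (by omega) e he he24 (eb ▸ hst.set_one hv) h2 h1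
    · next k s kind P a hact =>
      simp only [Bool.and_eq_true, Nat.blt_eq] at h
      obtain ⟨⟨⟨⟨⟨⟨⟨hk, hs⟩, ha⟩, hP⟩, hsq⟩, hsame⟩, hkind⟩, hfl⟩ := h
      obtain ⟨t, hFt, hpk⟩ := exists_param X hq he he24 hc hst h2 hk hP hkind
      obtain ⟨e', he'⟩ : ∃ e', e' = Function.update e 24 t := ⟨_, rfl⟩
      rw [← he'] at hFt hpk
      have hvx : ∀ x, x / 2 < 24 → vv q e' x = vv q e x := fun x hx => by
        simp [vv, he', Function.update_of_ne (show x / 2 ≠ 24 by omega)]
      have hWE : WE q e' = WE q e := congrArg List.prod (List.map_congr_left fun j hj => by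
        rw [he', Function.update_of_ne (show j ≠ 24 by simp [List.mem_range'_1] at hj; omega)])
      have e1 := same_spec (vv q e') E6.sys hC6 E6.tbl_ok hsame
      have e2 := same_spec (vv q e') E6.sys hC6 E6.tbl_ok hsq
      have hstw : wev (vv q e') E6.sys hC6 (stW st) = WE q e := by
        rw [← wev_stW X hq he hst, stW, W]
        refine congrArg List.prod (List.map_congr_left fun x hx => ?_)
        obtain ⟨j, hj, hx'⟩ := List.mem_flatMap.1 hx
        have hj24 : j < 24 := by simp [List.mem_range'_1] at hj; omega
        have hpev : pev (vv q e') x.2 = pev (vv q e) x.2 := by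
          refine congrArg List.sum (List.map_congr_left fun m hm => ?_)
          refine congrArg List.prod (List.map_congr_left fun y hy => hvx y ?_)
          rw [stP, List.getD_eq_getElem _ _ (by simpa using hj24), List.getElem_map,
            List.getElem_range'] at hx'
          simp only [zero_add, one_mul] at hx'
          unfold el at hx'
          cases hb0 : Nat.beq (fl st j) 0 <;> cases hb : Nat.beq (fst' j) (snd' j) <;>
            rw [hb0, hb] at hx' <;>
            simp only [cond_true, cond_false, List.mem_cons, List.not_mem_nil, or_false, cP,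
              List.map_nil, List.map_cons] at hx'
          · rcases hx' with rfl | rfl
            · simp at hm; subst hm; simp at hy; omega
            · simp [cM, mulM, ins, cv] at hm; subst hm
              simp at hy
              rw [show fx false j = false by rw [fx_false hj24]; exact hb] at hy
              simp at hy; omega
          · subst hx'; simp at hm; subst hm; simp at hy; omega
          · rcases hx' with rfl | rfl <;> simp at hm
          · subst hx'; simp at hm
        rw [hpev]
      rw [wev_append, wev_append, wev_el X hq hFt, hstw, wev_W X hq hFt] at e1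
      rw [wev_append, wev_el X hq hFt, wev_nil] at e2
      have ht24 : pev (vv q e') [[48]] = t := by simp [pev, mev, vv, he']
      rw [ht24] at e1 e2
      obtain ⟨g, hg⟩ : ∃ g, g = oe (K := K) q s t := ⟨_, rfl⟩
      rw [← hg] at e1 e2
      have hgm : g ∈ twistedE6 K q := hg ▸ oe_mem X hs (fun hfs => by
        have := hFt 24 (by rw [fx_param, fx_iff hs]; exact hfs)
        rwa [he', Function.update_self] at this)
      have hcj : Cj q (WE q e) (WE q (chi q e' P)) :=
        ⟨g, hgm, by rw [show g⁻¹ = g from inv_eq_of_mul_eq_one_right e2, WE_chi]; exact e1⟩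
      obtain ⟨r, hr, hr'⟩ := ih a ha (by omega) (chi q e' P) (chi_fixed X hq hFt hP)
        (by simp [chi]) (child_sem X hq hst hvx hfl fun _ => hpk) (hcj.sq h2) (hcj.ne h1)
      exact ⟨r, hr, hcj.trans hr'⟩
    · next ws P a hact =>
      simp only [Bool.and_eq_true, Nat.blt_eq] at h
      obtain ⟨⟨ha, hmap⟩, hfl⟩ := h
      obtain ⟨hcj, hP⟩ := cj_map X hq he hmap
      rw [wev_stW X hq he hst, ← WE_chi] at hcj
      obtain ⟨r, hr, hr'⟩ := ih a ha (by omega) (chi q e P) (chi_fixed X hq he hP) (by simp [chi])
        (child_sem X hq hst (fun _ _ => rfl) hfl (fun h => absurd h (by omega)))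
        (hcj.sq h2) (hcj.ne h1)
      exact ⟨r, hr, hcj.trans hr'⟩
    · next tgt E hact =>
      simp only [Bool.and_eq_true, Nat.blt_eq, decide_eq_true_eq] at h
      obtain ⟨⟨⟨htgt, hsupp⟩, hall⟩, hE⟩ := h
      refine ⟨reps.getD tgt [], ?_, ?_⟩
      · rw [List.getD_eq_getElem _ _ htgt]; exact List.getElem_mem htgt
      rw [hsupp]
      have hne : ∀ b ∈ supp st, e b ≠ 0 := fun b hb =>
        (hst b (mem_supp.1 hb).1).2 (Nat.eq_of_beq_eq_true (List.all_eq_true.1 hall b hb))
      have hout : ∀ j < 24, j ∉ supp st → e j = 0 := fun j hj hj' =>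
        (hst j hj).1 (by_contra fun h0 => hj' (mem_supp.2 ⟨hj, h0⟩))
      obtain ⟨e', hcj, -, hne', hout', hone⟩ := tor_all X hq (fun b hb => (mem_supp.1 hb).1) hE
        _ le_rfl e he hne hout
      have : WE q e' = rep q (supp st) := by
        rw [rep, WE, WE]
        refine congrArg List.prod (List.map_congr_left fun j hj => ?_)
        have hj24 : j < 24 := by simp [List.mem_range'_1] at hj; omega
        congr 1
        rw [ind]
        split
        · next hh =>
          obtain ⟨m, hm, rfl⟩ := List.getElem_of_mem hh.1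
          have := hone m hm
          rwa [List.getD_eq_getElem _ _ hm] at this
        · next hh => exact hout' j hj24 fun hm => hh ⟨hm, hj24⟩
      exact this ▸ hcj

end Cfsg.Agent.Chevalley.InvolCert.TwE6
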